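import Groth.Agent.Koszul19.Cone
import Mathlib.RingTheory.Regular.RegularSequence

/-! Koszul complexes of sequences: degrees, permutation invariance, degree zero, regular sequences. -/

universe u

open CategoryTheory CategoryTheory.Limits

namespace Groth.Agent.Koszul19

variable {A : Type u} [CommRing A]

/-- the recursion -/
noncomputable def consData (f : A) (l : List A) :
    ConeData f (Koszul.koszul A l) (Koszul.koszul A (f :: l)) :=
  ConeData.standard f _

lemma isZero_X_nil {q : ℤ} (hq : q ≠ 0) : IsZero ((Koszul.koszul A []).X q) :=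
  HomologicalComplex.isZero_single_obj_X _ _ _ _ hq

lemma subsingleton_nil {q : ℤ} (hq : q ≠ 0) : Subsingleton ((Koszul.koszul A []).X q : Type u) :=
  ModuleCat.subsingleton_of_isZero (isZero_X_nil hq)

lemma subsingleton_X (l : List A) (q : ℤ) (hq : 0 < q ∨ q < -(l.length : ℤ)) :
    Subsingleton ((Koszul.koszul A l).X q : Type u) := by
  induction l generalizing q with
  | nil => exact subsingleton_nil (by simp at hq; omega)
  | cons f l ih =>
    have := ih q (by simp at hq; omega)
    have := ih (q + 1) (by simp at hq; omega)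
    exact (consData f l).subsingleton_X q (q + 1) rfl

lemma ex_of_bound (l : List A) (q : ℤ) (hq : 0 < q ∨ q < -(l.length : ℤ)) :
    Ex (Koszul.koszul A l) q :=
  fun _ _ _ _ z _ => ⟨0, (subsingleton_X l q hq).elim _ _⟩

/-- degree zero of the empty sequence -/
noncomputable def nilZero : ((Koszul.koszul A []).X 0 : Type u) ≃ₗ[A] A :=
  (HomologicalComplex.singleObjXSelf (ComplexShape.up ℤ) (0 : ℤ) (ModuleCat.of A A)).toLinearEquiv

/-- projection off a trivial factor -/
def sndEquiv (M N : Type u) [AddCommGroup M] [Module A M] [AddCommGroup N] [Module A N]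
    [Subsingleton M] : (M × N) ≃ₗ[A] N :=
  { LinearMap.snd A M N with
    invFun := fun n => (0, n)
    left_inv := fun v => Prod.ext (Subsingleton.elim _ _) rfl
    right_inv := fun _ => rfl }

/-- degree zero is free of rank one -/
noncomputable def eps : (l : List A) → (((Koszul.koszul A l).X 0 : Type u) ≃ₗ[A] A)
  | [] => nilZero
  | f :: l =>
    haveI := subsingleton_X l 1 (Or.inl one_pos)
    (((consData f l).e 0 1 (zero_add 1)).trans
      (sndEquiv (A := A) ((Koszul.koszul A l).X 1 : Type u) ((Koszul.koszul A l).X 0 : Type u))).trans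
      (eps l)

lemma eps_cons (f : A) (l : List A) (x : (Koszul.koszul A (f :: l)).X 0) :
    eps (f :: l) x = eps l ((consData f l).e 0 1 (zero_add 1) x).2 := rfl

lemma eps_d_cons (f : A) (l : List A) (x : (Koszul.koszul A (f :: l)).X (-1)) :
    eps (f :: l) (dd _ (-1) 0 x) = f * eps l ((consData f l).e (-1) 0 (neg_add_cancel 1) x).1 +
      eps l (dd _ (-1) 0 ((consData f l).e (-1) 0 (neg_add_cancel 1) x).2) := by
  rw [eps_cons, (consData f l).e_d_snd (-1) 0 1 (neg_add_cancel 1) (zero_add 1)]
  simp

lemma range_eps_d (l : List A) :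
    LinearMap.range ((eps l).toLinearMap.comp (dd (Koszul.koszul A l) (-1) 0)) =
      Ideal.ofList l := by
  induction l with
  | nil =>
    have := subsingleton_X ([] : List A) (-1) (by simp)
    rw [Ideal.ofList_nil]
    refine le_antisymm ?_ bot_le
    rintro _ ⟨x, rfl⟩
    simp [Subsingleton.elim x 0]
  | cons f l ih =>
    rw [Ideal.ofList_cons]
    apply le_antisymm
    · rintro _ ⟨x, rfl⟩
      simp only [LinearMap.comp_apply, LinearEquiv.coe_coe, eps_d_cons]
      refine add_mem (Ideal.mem_sup_left (Ideal.mem_span_singleton.2 ⟨_, rfl⟩))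
        (Ideal.mem_sup_right ?_)
      rw [← ih]
      exact ⟨_, rfl⟩
    · intro a ha
      obtain ⟨b, hb, c, hc, rfl⟩ := Submodule.mem_sup.1 ha
      obtain ⟨b, rfl⟩ := Ideal.mem_span_singleton.1 hb
      rw [← ih] at hc
      obtain ⟨y, rfl⟩ := hc
      refine ⟨((consData f l).e (-1) 0 (neg_add_cancel 1)).symm ((eps l).symm b, y), ?_⟩
      simp only [LinearMap.comp_apply, LinearEquiv.coe_coe, eps_d_cons,
        LinearEquiv.apply_symm_apply]

lemma eps_mem_iff (l : List A) (z : (Koszul.koszul A l).X 0) :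
    eps l z ∈ Ideal.ofList l ↔ ∃ w, dd (Koszul.koszul A l) (-1) 0 w = z := by
  rw [← range_eps_d]
  simp [LinearMap.mem_range]

/-- the cohomology in degree zero -/
noncomputable def hcZero (l : List A) :
    Hc (Koszul.koszul A l) (-1) 0 1 ≃ₗ[A] A ⧸ Ideal.ofList l :=
  haveI := subsingleton_X l 1 (Or.inl one_pos)
  Submodule.Quotient.equiv _ _
    ((LinearEquiv.ofTop _ (by
      ext x
      exact ⟨fun _ => trivial, fun _ => Subsingleton.elim _ _⟩)).trans (eps l)) (by
      rw [← range_eps_d]
      ext a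
      simp only [Submodule.mem_map, Submodule.mem_comap, LinearMap.mem_range]
      constructor
      · rintro ⟨⟨z, hz⟩, ⟨w, hw⟩, rfl⟩
        exact ⟨w, congrArg (eps l) hw⟩
      · rintro ⟨w, rfl⟩
        exact ⟨⟨_, dd_dd _ (-1) 0 1 w⟩, ⟨w, rfl⟩, rfl⟩)

/-- permutation invariance -/
lemma nonempty_iso_of_perm {l l' : List A} (h : l.Perm l') :
    Nonempty (Koszul.koszul A l ≅ Koszul.koszul A l') := by
  induction h with
  | nil => exact ⟨Iso.refl _⟩
  | cons f _ ih => exact ih.map fun φ => ((consData f _).congr φ).iso (consData f _)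
  | swap f g l =>
    exact ⟨(consData f l).swap (consData g (f :: l)) (consData g l) (consData f (g :: l))⟩
  | trans _ _ ih₁ ih₂ =>
    obtain ⟨a⟩ := ih₁
    obtain ⟨b⟩ := ih₂
    exact ⟨a ≪≫ b⟩

lemma ex_perm {l l' : List A} (h : l.Perm l') {q : ℤ} (hq : Ex (Koszul.koszul A l) q) :
    Ex (Koszul.koszul A l') q :=
  hq.of_iso (nonempty_iso_of_perm h).some

/-- acyclic outside degree zero -/
def KR (l : List A) : Prop := ∀ q : ℤ, q ≠ 0 → Ex (Koszul.koszul A l) q

lemma kR_iff (l : List A) :
    KR l ↔ ∀ i : ℤ, i ≠ 0 → IsZero ((Koszul.koszul A l).homology i) := by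
  simp [KR, isZero_homology_iff_ex]

lemma KR.perm {l l' : List A} (h : l.Perm l') (hl : KR l) : KR l' :=
  fun q hq => ex_perm h (hl q hq)

lemma kR_of_neg (l : List A) (h : ∀ q : ℤ, q < 0 → Ex (Koszul.koszul A l) q) : KR l :=
  fun q hq => if hn : q < 0 then h q hn else ex_of_bound l q (Or.inl (by omega))

lemma kR_nil : KR ([] : List A) :=
  fun q hq => ex_of_bound [] q (by simp; omega)

lemma kR_cons_of_regular (f : A) (l : List A) (hl : KR l)
    (hf : ∀ a, f * a ∈ Ideal.ofList l → a ∈ Ideal.ofList l) : KR (f :: l) := by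
  apply kR_of_neg
  intro q hq
  rcases lt_or_eq_of_le (show q ≤ -1 by omega) with h | rfl
  · exact (consData f l).ex q (q + 1) rfl (hl q (by omega)) (hl (q + 1) (by omega))
  intro p j hp hj z hz
  obtain rfl : p = -2 := by omega
  obtain rfl : j = 0 := by omega
  obtain ⟨ha, hb⟩ := ((consData f l).cycle_iff (-1) 0 1 (by omega) (by omega) z).1 hz
  set a := ((consData f l).e (-1) 0 (by omega) z).1 with ha'
  set b := ((consData f l).e (-1) 0 (by omega) z).2 with hb'
  have hmem : f * eps l a ∈ Ideal.ofList l := by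
    have := congrArg (eps l) hb
    simp only [map_add, map_smul, map_zero, smul_eq_mul] at this
    rw [eq_neg_of_add_eq_zero_left this]
    exact neg_mem ((eps_mem_iff l _).2 ⟨_, rfl⟩)
  obtain ⟨w, hw⟩ := (eps_mem_iff l a).1 (hf _ hmem)
  have hcyc : dd (Koszul.koszul A l) (-1) 0 (f • w + b) = 0 := by
    rw [map_add, map_smul, hw, hb]
  obtain ⟨v, hv⟩ := hl (-1) (by omega) (-2) 0 (by omega) (by omega) _ hcyc
  refine ⟨((consData f l).e (-2) (-1) (by omega)).symm (-w, v),
    ((consData f l).e (-1) 0 (by omega)).injective ?_⟩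
  rw [(consData f l).e_d_symm (-2) (-1) 0 (by omega) (by omega), hv, map_neg, neg_neg, hw,
    smul_neg]
  apply Prod.ext
  · exact ha'
  · simp [← hb']

lemma regular_of_ex (f : A) (l : List A) (h : Ex (Koszul.koszul A (f :: l)) (-1)) (a : A)
    (ha : f * a ∈ Ideal.ofList l) : a ∈ Ideal.ofList l := by
  rw [← range_eps_d, LinearMap.mem_range] at ha
  obtain ⟨b, hb⟩ := ha
  have hfb : f • (eps l).symm a + dd (Koszul.koszul A l) (-1) 0 (-b) = 0 := by
    apply (eps l).injective
    rw [map_add, map_smul, LinearEquiv.apply_symm_apply, map_neg, map_neg, map_zero, smul_eq_mul]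
    simp at hb
    rw [hb, add_neg_cancel]
  obtain ⟨w, hw⟩ := (consData f l).exists_of_ex (-1) 0 1 (by omega) (by omega) h _
    ((subsingleton_X l 1 (Or.inl one_pos)).elim _ _) _ hfb
  simpa using (eps_mem_iff l _).2 ⟨w, hw⟩

lemma ofList_perm {l l' : List A} (h : l.Perm l') : Ideal.ofList l = Ideal.ofList l' := by
  simp only [Ideal.ofList]
  congr 1
  ext x
  exact h.mem_iff

lemma kR_of_isWeaklyRegular (l : List A) (h : RingTheory.Sequence.IsWeaklyRegular A l) : KR l := by
  induction l using List.reverseRecOn with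
  | nil => exact kR_nil
  | append_singleton l f ih =>
    obtain ⟨h1, h2⟩ := (RingTheory.Sequence.isWeaklyRegular_append_iff A l [f]).1 h
    refine KR.perm (List.perm_append_singleton f l).symm (kR_cons_of_regular f l (ih h1) ?_)
    intro a ha
    have hreg := ((RingTheory.Sequence.isWeaklyRegular_cons_iff _ f []).1 h2).1
    have : (Submodule.Quotient.mk a : A ⧸ Ideal.ofList l • (⊤ : Submodule A A)) = 0 := by
      apply hreg
      simp only [smul_zero]
      rw [← Submodule.Quotient.mk_smul, Submodule.Quotient.mk_eq_zero]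
      simpa using ha
    simpa using (Submodule.Quotient.mk_eq_zero _).1 this

end Groth.Agent.Koszul19
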