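import Groth.Agent.Koszul19.Homotopy
import Mathlib.RingTheory.Ideal.Cotangent
import Mathlib.LinearAlgebra.Finsupp.LinearCombination

/-! A regular system of generators gives a basis of the conormal module. -/

universe u

namespace Groth.Agent.Koszul19

variable {A : Type u} [CommRing A]

lemma ofList_ofFn {r : ℕ} (f : Fin r → A) :
    Ideal.ofList (List.ofFn f) = Ideal.span (Set.range f) := by
  simp only [Ideal.ofList]
  congr 1
  ext x
  simp

lemma coeff_mem_of_rel {r : ℕ} (f : Fin r → A) (hf : KR (List.ofFn f)) (c : Fin r → A)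
    (hc : ∑ i, c i * f i = 0) (i : Fin r) : c i ∈ Ideal.span (Set.range f) := by
  classical
  have hi : i.1 < (List.ofFn f).length := by simp
  have hperm : (List.ofFn f).Perm (f i :: (List.ofFn f).eraseIdx i) := by
    have := (List.getElem_cons_eraseIdx_perm hi).symm
    simpa using this
  have hle : Ideal.ofList ((List.ofFn f).eraseIdx i) ≤ Ideal.span (Set.range f) := by
    rw [← ofList_ofFn]
    exact Ideal.span_mono fun x hx => List.eraseIdx_subset hx
  apply hle
  apply coeff_mem_of_kR (KR.perm hperm hf)
  rw [← Finset.add_sum_erase _ _ (Finset.mem_univ i), add_eq_zero_iff_eq_neg, mul_comm] at hc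
  rw [hc]
  refine neg_mem (Ideal.sum_mem _ fun j hj => Ideal.mul_mem_left _ _ (Ideal.subset_span ?_))
  show f j ∈ (List.ofFn f).eraseIdx i
  rw [List.mem_eraseIdx_iff_getElem]
  exact ⟨j.1, by simp, fun h => Finset.ne_of_mem_erase hj (Fin.ext h), by simp⟩

lemma exists_basis {I : Ideal A} {r : ℕ} (f : Fin r → I)
    (hf : KR (List.ofFn fun i => (f i : A)))
    (hfI : Ideal.span (Set.range fun i => (f i : A)) = I) :
    ∃ b : Module.Basis (Fin r) (A ⧸ I) I.Cotangent, ∀ i, b i = I.toCotangent (f i) := by
  classical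
  have hspan : ⊤ ≤ Submodule.span (A ⧸ I) (Set.range fun i => I.toCotangent (f i)) := by
    intro x _
    obtain ⟨⟨a, ha⟩, rfl⟩ := I.toCotangent_surjective x
    have ha' := ha
    rw [← hfI, Ideal.mem_span_range_iff_exists_fun] at ha'
    obtain ⟨c, hc⟩ := ha'
    have : (⟨a, ha⟩ : I) = ∑ i, c i • f i := Subtype.ext (by simp [← hc])
    rw [this, map_sum]
    refine Submodule.sum_mem _ fun i _ => ?_
    rw [map_smul]
    exact Submodule.smul_of_tower_mem _ _ (Submodule.subset_span ⟨i, rfl⟩)
  have hli : LinearIndependent (A ⧸ I) fun i => I.toCotangent (f i) := by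
    rw [Fintype.linearIndependent_iff]
    intro g hg i
    choose c hc using fun j => Ideal.Quotient.mk_surjective (g j)
    have hsum : ∑ j, c j • I.toCotangent (f j) = 0 := by
      rw [← hg]
      refine Finset.sum_congr rfl fun j _ => ?_
      rw [← hc j]
      exact (algebraMap_smul (A ⧸ I) (c j) _).symm
    have hmem : (∑ j, c j * (f j : A)) ∈ I • Ideal.span (Set.range fun j => (f j : A)) := by
      rw [hfI, smul_eq_mul, ← sq]
      have : I.toCotangent (∑ j, c j • f j) = 0 := by simpa using hsum
      simpa using (Ideal.toCotangent_eq_zero I _).1 this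
    obtain ⟨d, hdI, hd⟩ := (Submodule.mem_ideal_smul_span_iff_exists_sum _ _ _).1 hmem
    rw [Finsupp.sum_fintype _ _ (by simp)] at hd
    simp only [smul_eq_mul] at hd
    have := coeff_mem_of_rel (fun j => (f j : A)) hf (fun j => c j - d j)
      (by simp [sub_mul, hd]) i
    rw [hfI] at this
    rw [← hc i, Ideal.Quotient.eq_zero_iff_mem]
    simpa using I.add_mem this (hdI i)
  exact ⟨Module.Basis.mk hli hspan, fun i => Module.Basis.mk_apply _ _ i⟩

end Groth.Agent.Koszul19
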