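import Groth.Agent.Koszul19.Seq
import Mathlib.RingTheory.Flat.FaithfullyFlat.Basic
import Mathlib.LinearAlgebra.TensorProduct.Prod
import Mathlib.LinearAlgebra.TensorProduct.Tower

/-! Change of rings for Koszul complexes. -/

universe u

open CategoryTheory TensorProduct

namespace Groth.Agent.Koszul19

variable {A : Type u} [CommRing A] (B : Type u) [CommRing B] [Algebra A B]

/-- `L` is the extension of scalars of `K` -/
structure BCData (K : CochainComplex (ModuleCat.{u} A) ℤ) (L : CochainComplex (ModuleCat.{u} B) ℤ) :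
    Type u where
  /-- components -/
  e : ∀ q, (B ⊗[A] (K.X q : Type u)) ≃ₗ[B] (L.X q : Type u)
  comm : ∀ q q₁, q + 1 = q₁ → ∀ z, e q₁ ((dd K q q₁).baseChange B z) = dd L q q₁ (e q z)

variable {B}

/-- the cone step -/
noncomputable def BCData.cone {f : A} {K M : CochainComplex (ModuleCat.{u} A) ℤ}
    {L N : CochainComplex (ModuleCat.{u} B) ℤ} (d : BCData B K L) (c : ConeData f K M)
    (c' : ConeData (algebraMap A B f) L N) : BCData B M N where
  e q := (((c.e q (q + 1) rfl).baseChange A B).trans
    (TensorProduct.prodRight A B B _ _)).trans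
      (((d.e (q + 1)).prodCongr (d.e q)).trans (c'.e q (q + 1) rfl).symm)
  comm q q₁ h z := by
    subst h
    apply (c'.e (q + 1) (q + 1 + 1) rfl).injective
    induction z with
    | zero => simp [Prod.mk_zero_zero]
    | add x y hx hy => simp only [map_add, hx, hy]
    | tmul b x =>
      simp only [LinearEquiv.trans_apply, LinearMap.baseChange_tmul, LinearEquiv.apply_symm_apply,
        LinearEquiv.baseChange_tmul, TensorProduct.prodRight_tmul, LinearEquiv.prodCongr_apply,
        c'.e_d_symm q (q + 1) (q + 1 + 1) rfl rfl, c.e_d_fst q (q + 1) (q + 1 + 1) rfl rfl,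
        c.e_d_snd q (q + 1) (q + 1 + 1) rfl rfl, TensorProduct.tmul_neg, TensorProduct.tmul_add,
        map_neg, map_add]
      apply Prod.ext
      · simp only
        rw [← d.comm (q + 1) (q + 1 + 1) rfl, LinearMap.baseChange_tmul]
      · simp only
        rw [← d.comm q (q + 1) rfl, LinearMap.baseChange_tmul, TensorProduct.tmul_smul,
          ← algebraMap_smul B f (b ⊗ₜ[A] _), map_smul]

/-- empty sequence -/
noncomputable def bcNil : BCData B (Koszul.koszul A []) (Koszul.koszul B []) where
  e q := if h : q = 0 then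
      h ▸ ((LinearEquiv.baseChange A B _ _ (nilZero (A := A))).trans
        ((TensorProduct.AlgebraTensorModule.rid A B B).trans (nilZero (A := B)).symm))
    else
      haveI := subsingleton_nil (A := A) h
      haveI := subsingleton_nil (A := B) h
      LinearEquiv.ofSubsingleton _ _
  comm q q₁ h z := by
    by_cases hq : q₁ = 0
    · have := subsingleton_nil (A := A) (show q ≠ 0 by omega)
      have : Subsingleton (B ⊗[A] ((Koszul.koszul A []).X q : Type u)) := inferInstance
      rw [Subsingleton.elim z 0]
      simp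
    · exact (subsingleton_nil (A := B) hq).elim _ _

/-- change of rings for Koszul complexes -/
noncomputable def bcKoszul : (l : List A) →
    BCData B (Koszul.koszul A l) (Koszul.koszul B (l.map (algebraMap A B)))
  | [] => bcNil
  | f :: l => (bcKoszul l).cone (consData f l) (consData (algebraMap A B f) _)

lemma ex_iff_exact (K : CochainComplex (ModuleCat.{u} A) ℤ) (p q j : ℤ) (hp : p + 1 = q)
    (hj : q + 1 = j) : Ex K q ↔ Function.Exact (dd K p q) (dd K q j) := by
  constructor
  · intro h z
    refine ⟨h p j hp hj z, ?_⟩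
    rintro ⟨w, rfl⟩
    exact dd_dd K p q j w
  · intro h p' j' hp' hj' z hz
    obtain rfl : p' = p := by omega
    obtain rfl : j' = j := by omega
    exact (h z).1 hz

namespace BCData

variable {K : CochainComplex (ModuleCat.{u} A) ℤ} {L : CochainComplex (ModuleCat.{u} B) ℤ}
  (d : BCData B K L)

include d in
lemma exact_iff (p q j : ℤ) (hp : p + 1 = q) (hj : q + 1 = j) :
    Ex L q ↔ Function.Exact ((dd K p q).lTensor B) ((dd K q j).lTensor B) := by
  rw [ex_iff_exact L p q j hp hj]
  exact ((Function.Exact.iff_of_ladder_addEquiv (e₁ := (d.e p).toAddEquiv)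
    (e₂ := (d.e q).toAddEquiv) (e₃ := (d.e j).toAddEquiv)
    (f₁₂ := ((dd K p q).lTensor B).toAddMonoidHom) (f₂₃ := ((dd K q j).lTensor B).toAddMonoidHom)
    (g₁₂ := (dd L p q).toAddMonoidHom) (g₂₃ := (dd L q j).toAddMonoidHom)
    (by
      ext z
      exact (d.comm p q hp z).symm)
    (by
      ext z
      exact (d.comm q j hj z).symm)))

include d in
lemma ex_of_flat [Module.Flat A B] {q : ℤ} (h : Ex K q) : Ex L q :=
  (d.exact_iff (q - 1) q (q + 1) (by omega) rfl).2
    (Module.Flat.lTensor_exact B ((ex_iff_exact K (q - 1) q (q + 1) (by omega) rfl).1 h))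

include d in
lemma ex_descend [Module.FaithfullyFlat A B] {q : ℤ} (h : Ex L q) : Ex K q :=
  (ex_iff_exact K (q - 1) q (q + 1) (by omega) rfl).2
    (Module.FaithfullyFlat.lTensor_reflects_exact A B _ _
      ((d.exact_iff (q - 1) q (q + 1) (by omega) rfl).1 h))

end BCData

lemma KR.map [Module.Flat A B] {l : List A} (h : KR l) : KR (l.map (algebraMap A B)) :=
  fun q hq => (bcKoszul l).ex_of_flat (h q hq)

lemma KR.descend [Module.FaithfullyFlat A B] {l : List A} (h : KR (l.map (algebraMap A B))) :
    KR l :=
  fun q hq => (bcKoszul l).ex_descend (h q hq)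

end Groth.Agent.Koszul19
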