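import Groth.Agent.Koszul19.Seq

/-! Elements of the ideal act null-homotopically; adjoining them splits the complex. -/

universe u

open CategoryTheory CategoryTheory.Limits

namespace Groth.Agent.Koszul19

variable {A : Type u} [CommRing A]

/-- contracting maps for multiplication by `y` -/
def NullHtp (K : CochainComplex (ModuleCat.{u} A) ℤ) (y : A) : Prop :=
  ∃ h : ∀ q p : ℤ, q + 1 = p → ((K.X p : Type u) →ₗ[A] (K.X q : Type u)),
    ∀ (q p r : ℤ) (e : q + 1 = p) (e' : p + 1 = r) (x : K.X p),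
      dd K q p (h q p e x) + h p r e' (dd K p r x) = y • x

/-- the ideal of elements acting null-homotopically -/
def nullIdeal (K : CochainComplex (ModuleCat.{u} A) ℤ) : Ideal A where
  carrier := {y | NullHtp K y}
  zero_mem' := ⟨fun _ _ _ => 0, fun _ _ _ _ _ _ => by simp⟩
  add_mem' := by
    rintro a b ⟨h, hh⟩ ⟨k, hk⟩
    refine ⟨fun q p e => h q p e + k q p e, fun q p r e e' x => ?_⟩
    rw [LinearMap.add_apply, LinearMap.add_apply, map_add, add_smul, ← hh q p r e e' x,
      ← hk q p r e e' x]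
    abel
  smul_mem' := by
    rintro c a ⟨h, hh⟩
    refine ⟨fun q p e => c • h q p e, fun q p r e e' x => ?_⟩
    rw [LinearMap.smul_apply, LinearMap.smul_apply, map_smul, ← smul_add, hh q p r e e' x,
      smul_eq_mul, mul_smul]

namespace ConeData

variable {f : A} {K L : CochainComplex (ModuleCat.{u} A) ℤ}

lemma nullHtp_self (c : ConeData f K L) : NullHtp L f := by
  refine ⟨fun q p e => (c.e q p e).symm.toLinearMap ∘ₗ
    (LinearMap.inl A _ _ ∘ₗ LinearMap.snd A _ _) ∘ₗ (c.e p (p + 1) rfl).toLinearMap,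
    fun q p r e e' x => ?_⟩
  subst e'
  apply (c.e p (p + 1) rfl).injective
  simp only [LinearMap.comp_apply, LinearEquiv.coe_coe, LinearMap.snd_apply, LinearMap.inl_apply,
    map_add, map_smul]
  rw [c.e_d_symm q p (p + 1) e rfl, LinearEquiv.apply_symm_apply,
    c.e_d_snd p (p + 1) (p + 1 + 1) rfl rfl]
  apply Prod.ext <;> simp

lemma nullHtp_of (c : ConeData f K L) {y : A} (hy : NullHtp K y) : NullHtp L y := by
  obtain ⟨h, hh⟩ := hy
  refine ⟨fun q p e => (c.e q p e).symm.toLinearMap ∘ₗ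
    ((-(h p (p + 1) rfl)).prodMap (h q p e)) ∘ₗ (c.e p (p + 1) rfl).toLinearMap,
    fun q p r e e' x => ?_⟩
  subst e'
  apply (c.e p (p + 1) rfl).injective
  simp only [LinearMap.comp_apply, LinearEquiv.coe_coe, LinearMap.prodMap_apply,
    LinearMap.neg_apply, map_add, map_smul]
  rw [c.e_d_symm q p (p + 1) e rfl, LinearEquiv.apply_symm_apply,
    c.e_d_fst p (p + 1) (p + 1 + 1) rfl rfl, c.e_d_snd p (p + 1) (p + 1 + 1) rfl rfl]
  apply Prod.ext
  · simp [hh p (p + 1) (p + 1 + 1) rfl rfl]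
  · simp only [Prod.snd_add, Prod.smul_snd, map_add, map_smul, smul_neg]
    rw [← hh q p (p + 1) e rfl ((c.e p (p + 1) rfl x).2)]
    abel

/-- a cone of a null-homotopic multiplication is a cone of zero -/
noncomputable def splitAux (c : ConeData f K L)
    (h : ∀ q p : ℤ, q + 1 = p → ((K.X p : Type u) →ₗ[A] (K.X q : Type u)))
    (hh : ∀ (q p r : ℤ) (e : q + 1 = p) (e' : p + 1 = r) (x : K.X p),
      dd K q p (h q p e x) + h p r e' (dd K p r x) = f • x) : ConeData (0 : A) K L where
  e q q₁ e := (c.e q q₁ e).trans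
    { LinearMap.prod (LinearMap.fst A _ _)
        (LinearMap.snd A _ _ + (h q q₁ e) ∘ₗ LinearMap.fst A _ _) with
      invFun := fun v => (v.1, v.2 - h q q₁ e v.1)
      left_inv := fun v => by simp
      right_inv := fun v => by simp }
  e_d_fst q q₁ q₂ e e' x := by
    simp [c.e_d_fst q q₁ q₂ e e']
  e_d_snd q q₁ q₂ e e' x := by
    simp [c.e_d_fst q q₁ q₂ e e', c.e_d_snd q q₁ q₂ e e',
      ← hh q q₁ q₂ e e' (c.e q q₁ e x).1]
    abel

/-- a cone of zero -/
noncomputable def split (c : ConeData f K L) (hf : NullHtp K f) : ConeData (0 : A) K L :=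
  c.splitAux hf.choose hf.choose_spec

lemma ex_left_of_zero (c : ConeData (0 : A) K L) (q : ℤ) (hL : Ex L q) : Ex K q := by
  intro p j hp hj z hz
  obtain ⟨w, hw⟩ := hL p j hp hj ((c.e q j hj).symm (0, z)) (by
    rw [c.cycle_iff q j (j + 1) hj rfl, LinearEquiv.apply_symm_apply]
    simp [hz])
  refine ⟨(c.e p q hp w).2, ?_⟩
  have := c.e_d_snd p q j hp hj w
  rw [hw, LinearEquiv.apply_symm_apply] at this
  simpa using this.symm

lemma ex_right_of_zero (c : ConeData (0 : A) K L) (p q : ℤ) (hp : p + 1 = q) (hL : Ex L p) :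
    Ex K q := by
  intro p' j hp' hj z hz
  obtain rfl : p' = p := by omega
  exact c.exists_of_ex p' q j hp hj hL z hz 0 (by simp)

/-- cycles to cycles, first component -/
noncomputable def cycFst (c : ConeData (0 : A) K L) (q r s : ℤ) (hr : q + 1 = r) (hs : r + 1 = s) :
    ↥(LinearMap.ker (dd L q r)) →ₗ[A] ↥(LinearMap.ker (dd K r s)) :=
  LinearMap.codRestrict _ ((LinearMap.fst A _ _ ∘ₗ (c.e q r hr).toLinearMap) ∘ₗ
    Submodule.subtype _) (fun z => LinearMap.mem_ker.2 ((c.cycle_iff q r s hr hs z.1).1 z.2).1)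

/-- cycles to cycles, second component -/
noncomputable def cycSnd (c : ConeData (0 : A) K L) (q r : ℤ) (hr : q + 1 = r) :
    ↥(LinearMap.ker (dd L q r)) →ₗ[A] ↥(LinearMap.ker (dd K q r)) :=
  LinearMap.codRestrict _ ((LinearMap.snd A _ _ ∘ₗ (c.e q r hr).toLinearMap) ∘ₗ
    Submodule.subtype _) (fun z => LinearMap.mem_ker.2 (by
      have := ((c.cycle_iff q r (r + 1) hr rfl z.1).1 z.2).2
      simpa using this))

lemma cycFst_coe (c : ConeData (0 : A) K L) (q r s : ℤ) (hr : q + 1 = r) (hs : r + 1 = s) (z) :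
    (c.cycFst q r s hr hs z : (K.X r : Type u)) = (c.e q r hr z.1).1 := rfl

lemma cycSnd_coe (c : ConeData (0 : A) K L) (q r : ℤ) (hr : q + 1 = r) (z) :
    (c.cycSnd q r hr z : (K.X q : Type u)) = (c.e q r hr z.1).2 := rfl

/-- the comparison map -/
noncomputable def hcMap (c : ConeData (0 : A) K L) (p q r s : ℤ) (hp : p + 1 = q) (hr : q + 1 = r)
    (hs : r + 1 = s) : Hc L p q r →ₗ[A] Hc K q r s × Hc K p q r :=
  Submodule.liftQ _
    ((Submodule.mkQ _ ∘ₗ c.cycFst q r s hr hs).prod (Submodule.mkQ _ ∘ₗ c.cycSnd q r hr))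
    (fun z hz => by
      obtain ⟨w, hw⟩ := Submodule.mem_comap.1 hz
      rw [Submodule.subtype_apply] at hw
      have h1 := c.e_d_fst p q r hp hr w
      have h2 := c.e_d_snd p q r hp hr w
      rw [hw] at h1 h2
      rw [zero_smul, zero_add] at h2
      rw [LinearMap.mem_ker, LinearMap.prod_apply, Function.prod_apply, Prod.ext_iff]
      refine ⟨(Submodule.Quotient.mk_eq_zero _).2 (Submodule.mem_comap.2 ?_),
        (Submodule.Quotient.mk_eq_zero _).2 (Submodule.mem_comap.2 ?_)⟩
      · rw [Submodule.subtype_apply, cycFst_coe]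
        exact ⟨-(c.e p q hp w).1, (map_neg _ _).trans h1.symm⟩
      · rw [Submodule.subtype_apply, cycSnd_coe]
        exact ⟨_, h2.symm⟩)

lemma hcMap_mk (c : ConeData (0 : A) K L) (p q r s : ℤ) (hp : p + 1 = q) (hr : q + 1 = r)
    (hs : r + 1 = s) (z : ↥(LinearMap.ker (dd L q r))) :
    c.hcMap p q r s hp hr hs (Submodule.Quotient.mk z) =
      (Submodule.Quotient.mk (c.cycFst q r s hr hs z), Submodule.Quotient.mk (c.cycSnd q r hr z)) :=
  rfl

lemma hcMap_bijective (c : ConeData (0 : A) K L) (p q r s : ℤ) (hp : p + 1 = q) (hr : q + 1 = r)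
    (hs : r + 1 = s) : Function.Bijective (c.hcMap p q r s hp hr hs) := by
  constructor
  · rw [injective_iff_map_eq_zero]
    intro x hx
    obtain ⟨z, rfl⟩ := Submodule.Quotient.mk_surjective _ x
    rw [hcMap_mk, Prod.ext_iff] at hx
    obtain ⟨a, ha⟩ := (Submodule.Quotient.mk_eq_zero _).1 hx.1
    obtain ⟨b, hb⟩ := (Submodule.Quotient.mk_eq_zero _).1 hx.2
    refine (Submodule.Quotient.mk_eq_zero _).2 ⟨(c.e p q hp).symm (-a, b), ?_⟩
    apply (c.e q r hr).injective
    rw [c.e_d_symm p q r hp hr, zero_smul, zero_add, map_neg, neg_neg]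
    exact Prod.ext ha hb
  · rintro ⟨a, b⟩
    obtain ⟨a, rfl⟩ := Submodule.Quotient.mk_surjective _ a
    obtain ⟨b, rfl⟩ := Submodule.Quotient.mk_surjective _ b
    have hz : (c.e q r hr).symm (a.1, b.1) ∈ LinearMap.ker (dd L q r) := by
      rw [LinearMap.mem_ker, c.cycle_iff q r s hr hs, LinearEquiv.apply_symm_apply]
      refine ⟨a.2, ?_⟩
      have := LinearMap.mem_ker.1 b.2
      simpa using this
    refine ⟨Submodule.Quotient.mk ⟨_, hz⟩, ?_⟩
    rw [hcMap_mk, Prod.ext_iff]
    refine ⟨congrArg Submodule.Quotient.mk (Subtype.ext ?_),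
      congrArg Submodule.Quotient.mk (Subtype.ext ?_)⟩
    · rw [cycFst_coe, LinearEquiv.apply_symm_apply]
    · rw [cycSnd_coe, LinearEquiv.apply_symm_apply]

/-- cohomology of a cone of zero -/
noncomputable def hcEquiv (c : ConeData (0 : A) K L) (p q r s : ℤ) (hp : p + 1 = q)
    (hr : q + 1 = r) (hs : r + 1 = s) : Hc L p q r ≃ₗ[A] Hc K q r s × Hc K p q r :=
  LinearEquiv.ofBijective _ (c.hcMap_bijective p q r s hp hr hs)

end ConeData

lemma nullHtp_koszul (l : List A) : Ideal.ofList l ≤ nullIdeal (Koszul.koszul A l) := by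
  induction l with
  | nil => simp
  | cons f l ih =>
    rw [Ideal.ofList_cons, sup_le_iff, Ideal.span_singleton_le_iff_mem]
    exact ⟨(consData f l).nullHtp_self, fun y hy => (consData f l).nullHtp_of (ih hy)⟩

/-- the split cone -/
noncomputable def consSplit {y : A} {l : List A} (hy : y ∈ Ideal.ofList l) :
    ConeData (0 : A) (Koszul.koszul A l) (Koszul.koszul A (y :: l)) :=
  (consData y l).split (nullHtp_koszul l hy)

lemma ex_append_iff (ys xs : List A) (hy : ∀ y ∈ ys, y ∈ Ideal.ofList xs) (q : ℤ) :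
    Ex (Koszul.koszul A (ys ++ xs)) q ↔
      ∀ j : ℕ, j ≤ ys.length → Ex (Koszul.koszul A xs) (q + j) := by
  induction ys generalizing q with
  | nil => simp
  | cons y ys ih =>
    have hy' : ∀ z ∈ ys, z ∈ Ideal.ofList xs := fun z hz => hy z (List.mem_cons_of_mem _ hz)
    have hmem : y ∈ Ideal.ofList (ys ++ xs) := by
      rw [Ideal.ofList_append]
      exact Ideal.mem_sup_right (hy y List.mem_cons_self)
    let c := consSplit hmem
    have key : Ex (Koszul.koszul A (y :: (ys ++ xs))) q ↔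
        Ex (Koszul.koszul A (ys ++ xs)) q ∧ Ex (Koszul.koszul A (ys ++ xs)) (q + 1) :=
      ⟨fun h => ⟨c.ex_left_of_zero q h, c.ex_right_of_zero q _ rfl h⟩,
        fun h => c.ex q _ rfl h.1 h.2⟩
    rw [List.cons_append, key, ih hy', ih hy']
    constructor
    · rintro ⟨h1, h2⟩ j hj
      simp only [List.length_cons] at hj
      rcases Nat.lt_or_ge j (ys.length + 1) with hlt | hge
      · exact h1 j (by omega)
      · have := h2 ys.length le_rfl
        rwa [show q + 1 + (ys.length : ℤ) = q + j by omega] at this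
    · intro h
      refine ⟨fun j hj => h j (by simp; omega), fun j hj => ?_⟩
      have := h (j + 1) (by simp; omega)
      push_cast at this
      rwa [show q + (j + 1 : ℤ) = q + 1 + j by omega] at this

lemma not_ex_zero (l : List A) (hl : Ideal.ofList l ≠ ⊤) : ¬ Ex (Koszul.koszul A l) 0 := by
  intro h
  apply hl
  rw [Ideal.eq_top_iff_one]
  obtain ⟨w, hw⟩ := h (-1) 1 (by omega) (by omega) ((eps l).symm 1)
    ((subsingleton_X l 1 (Or.inl one_pos)).elim _ _)
  simpa using (eps_mem_iff l _).2 ⟨w, hw⟩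

lemma subset_of_ofList_eq {l l' : List A} (h : Ideal.ofList l = Ideal.ofList l') :
    ∀ y ∈ l, y ∈ Ideal.ofList l' :=
  fun y hy => h ▸ Ideal.subset_span hy

/-- generators no longer than a regular system of generators are regular -/
lemma kR_of_length_le {f g : List A} (hg : KR g) (hfg : Ideal.ofList f = Ideal.ofList g)
    (hlen : f.length ≤ g.length) : KR f := by
  apply kR_of_neg
  intro m hm
  have h1 : Ex (Koszul.koszul A (g ++ f)) (m - g.length) := by
    refine ex_perm List.perm_append_comm.symm.symm ((ex_append_iff f g (subset_of_ofList_eq hfg) _).2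
      fun j hj => ?_)
    exact hg _ (by omega)
  have := (ex_append_iff g f (subset_of_ofList_eq hfg.symm) _).1 h1 g.length le_rfl
  rwa [sub_add_cancel] at this

lemma length_le_of_kR {f g : List A} (hf : KR f) (hfg : Ideal.ofList f = Ideal.ofList g)
    (hne : Ideal.ofList f ≠ ⊤) : f.length ≤ g.length := by
  by_contra hlt
  apply not_ex_zero g (hfg ▸ hne)
  have h1 : Ex (Koszul.koszul A (g ++ f)) (-(f.length : ℤ)) :=
    (ex_append_iff g f (subset_of_ofList_eq hfg.symm) _).2 fun j hj => hf _ (by omega)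
  have := (ex_append_iff f g (subset_of_ofList_eq hfg) _).1 (ex_perm List.perm_append_comm h1)
    f.length le_rfl
  rwa [neg_add_cancel] at this

lemma coeff_mem_of_kR {f : A} {l : List A} (h : KR (f :: l)) {a : A}
    (ha : f * a ∈ Ideal.ofList l) : a ∈ Ideal.ofList l :=
  regular_of_ex f l (h (-1) (by omega)) a ha

end Groth.Agent.Koszul19
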