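import Groth.Agent.Koszul19.Homotopy
import Groth.Prelude.Def_DRing2
import Mathlib.LinearAlgebra.TensorProduct.Prod
import Mathlib.LinearAlgebra.Pi
import Mathlib.Algebra.BigOperators.Fin
import Mathlib.Data.Fintype.Powerset
import Mathlib.Algebra.Category.ModuleCat.Monoidal.Basic

/-! Koszul complexes with coefficients in a module. -/

universe u

open CategoryTheory TensorProduct

namespace Groth.Agent.Koszul19

variable {A : Type u} [CommRing A] (M : ModuleCat.{u} A)

lemma prodLeft_apply {X Y Z : Type u} [AddCommGroup X] [Module A X] [AddCommGroup Y] [Module A Y]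
    [AddCommGroup Z] [Module A Z] (v : X × Y) (z : Z) :
    TensorProduct.prodLeft A A X Y Z (v ⊗ₜ[A] z) = (v.1 ⊗ₜ[A] z, v.2 ⊗ₜ[A] z) := by
  obtain ⟨a, b⟩ := v
  simp

/-- a cone stays a cone after tensoring -/
noncomputable def ConeData.tensor {f : A} {K L : CochainComplex (ModuleCat.{u} A) ℤ}
    (c : ConeData f K L) : ConeData f (DRing.tensorCx K M) (DRing.tensorCx L M) where
  e q q₁ h := (LinearEquiv.rTensor (M : Type u) (c.e q q₁ h)).trans
    (TensorProduct.prodLeft A A (K.X q₁ : Type u) (K.X q : Type u) (M : Type u))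
  e_d_fst q q₁ q₂ h h' x := by
    change (((LinearEquiv.rTensor (M : Type u) (c.e q₁ q₂ h')).trans (TensorProduct.prodLeft A A _ _ _))
      (LinearMap.rTensor (M : Type u) (dd L q q₁) x)).1 = - LinearMap.rTensor (M : Type u) (dd K q₁ q₂)
      (((LinearEquiv.rTensor (M : Type u) (c.e q q₁ h)).trans (TensorProduct.prodLeft A A _ _ _)) x).1
    induction x using TensorProduct.induction_on with
    | zero => simp
    | add x y hx hy =>
      simp only [map_add, Prod.fst_add] at hx hy ⊢
      rw [hx, hy, neg_add_rev, add_comm]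
    | tmul x m =>
      simp only [LinearEquiv.trans_apply, LinearMap.rTensor_tmul, LinearEquiv.rTensor_tmul,
        prodLeft_apply, c.e_d_fst q q₁ q₂ h h', TensorProduct.neg_tmul]
  e_d_snd q q₁ q₂ h h' x := by
    change (((LinearEquiv.rTensor (M : Type u) (c.e q₁ q₂ h')).trans (TensorProduct.prodLeft A A _ _ _))
      (LinearMap.rTensor (M : Type u) (dd L q q₁) x)).2 =
      f • (((LinearEquiv.rTensor (M : Type u) (c.e q q₁ h)).trans (TensorProduct.prodLeft A A _ _ _)) x).1 +
      LinearMap.rTensor (M : Type u) (dd K q q₁)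
      (((LinearEquiv.rTensor (M : Type u) (c.e q q₁ h)).trans (TensorProduct.prodLeft A A _ _ _)) x).2
    induction x using TensorProduct.induction_on with
    | zero => simp
    | add x y hx hy =>
      simp only [map_add, Prod.fst_add, Prod.snd_add] at hx hy ⊢
      rw [hx, hy, smul_add]
      abel
    | tmul x m =>
      simp only [LinearEquiv.trans_apply, LinearMap.rTensor_tmul, LinearEquiv.rTensor_tmul,
        prodLeft_apply, c.e_d_snd q q₁ q₂ h h', TensorProduct.add_tmul,
        TensorProduct.smul_tmul']

/-- cohomology of a split cone -/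
noncomputable def ConeData.homologyEquiv {K L : CochainComplex (ModuleCat.{u} A) ℤ}
    (c : ConeData (0 : A) K L) (q : ℤ) :
    (L.homology q : Type u) ≃ₗ[A] (K.homology (q + 1) : Type u) × (K.homology q : Type u) :=
  (homologyIsoHc L (q - 1) q (q + 1) (by omega) rfl).toLinearEquiv.trans
    ((c.hcEquiv (q - 1) q (q + 1) (q + 1 + 1) (by omega) rfl rfl).trans
      ((homologyIsoHc K q (q + 1) (q + 1 + 1) rfl rfl).toLinearEquiv.symm.prodCongr
        (homologyIsoHc K (q - 1) q (q + 1) (by omega) rfl).toLinearEquiv.symm))

variable {M}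

/-- transport along an equality of degrees -/
noncomputable def castEquiv (G : ℤ → ModuleCat.{u} A) {i j : ℤ} (h : i = j) :
    (G i : Type u) ≃ₗ[A] (G j : Type u) := by
  subst h
  exact LinearEquiv.refl A _

lemma castEquiv_apply (G : ℤ → ModuleCat.{u} A) {σ : Type} (w : σ → ℤ)
    (v : (s : σ) → (G (w s) : Type u)) {t t' : σ} (e : t = t') (h : w t = w t') :
    castEquiv G h (v t) = v t' := by
  subst e
  rfl

/-- transport of cohomology along an equality of degrees -/
noncomputable abbrev homologyCongr (K : CochainComplex (ModuleCat.{u} A) ℤ) {i j : ℤ} (h : i = j) :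
    (K.homology i : Type u) ≃ₗ[A] (K.homology j : Type u) :=
  castEquiv (fun r => K.homology r) h

/-- number of chosen entries -/
def weight {n : ℕ} (s : Fin n → Bool) : ℤ := ∑ i, if s i then 1 else 0

lemma tail_ne {n : ℕ} {t : Fin (n + 1) → Bool} (h : ¬ t 0 = true) :
    Fin.cons false (Fin.tail t) = t := by
  rw [show false = t 0 by simpa using h, Fin.cons_self_tail]

/-- splitting off the first choice -/
noncomputable def splitEquiv (G : ℤ → ModuleCat.{u} A) {n : ℕ} (w : (Fin (n + 1) → Bool) → ℤ) :
    ((t : Fin (n + 1) → Bool) → (G (w t) : Type u)) ≃ₗ[A]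
      ((s : Fin n → Bool) → (G (w (Fin.cons true s)) : Type u)) ×
        ((s : Fin n → Bool) → (G (w (Fin.cons false s)) : Type u)) where
  toFun v := (fun s => v (Fin.cons true s), fun s => v (Fin.cons false s))
  map_add' _ _ := rfl
  map_smul' _ _ := rfl
  invFun v t :=
    if h : t 0 = true then castEquiv G (congrArg w (h ▸ Fin.cons_self_tail t)) (v.1 (Fin.tail t))
    else castEquiv G (congrArg w (tail_ne h)) (v.2 (Fin.tail t))
  left_inv v := by
    funext t
    by_cases h : t 0 = true
    · refine (dif_pos h).trans ?_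
      exact castEquiv_apply G w v (h ▸ Fin.cons_self_tail t) _
    · refine (dif_neg h).trans ?_
      exact castEquiv_apply G w v (tail_ne h) _
  right_inv v := by
    apply Prod.ext
    · funext s
      dsimp only
      refine (dif_pos (by simp)).trans ?_
      exact castEquiv_apply G (fun s => w (Fin.cons true s)) v.1 (Fin.tail_cons (α := fun _ => Bool) true s) _
    · funext s
      dsimp only
      refine (dif_neg (by simp)).trans ?_
      exact castEquiv_apply G (fun s => w (Fin.cons false s)) v.2 (Fin.tail_cons (α := fun _ => Bool) false s) _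

lemma nonempty_equiv_append (xs ys : List A) (hy : ∀ y ∈ ys, y ∈ Ideal.ofList xs) (m : ℤ) :
    Nonempty (((DRing.tensorCx (Koszul.koszul A (ys ++ xs)) M).homology m : Type u) ≃ₗ[A]
      ((s : Fin ys.length → Bool) →
        ((DRing.tensorCx (Koszul.koszul A xs) M).homology (m + weight s) : Type u))) := by
  induction ys generalizing m with
  | nil =>
    exact ⟨(homologyCongr _ (by simp)).trans
      (LinearEquiv.funUnique (Fin 0 → Bool) A
        ((DRing.tensorCx (Koszul.koszul A xs) M).homology (m + 0) : Type u)).symm |>.trans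
      (LinearEquiv.piCongrRight fun s => homologyCongr _ (by simp [weight]))⟩
  | cons y ys ih =>
    have hy' : ∀ z ∈ ys, z ∈ Ideal.ofList xs := fun z hz => hy z (List.mem_cons_of_mem _ hz)
    have hmem : y ∈ Ideal.ofList (ys ++ xs) := by
      rw [Ideal.ofList_append]
      exact Ideal.mem_sup_right (hy y List.mem_cons_self)
    obtain ⟨e1⟩ := ih hy' (m + 1)
    obtain ⟨e0⟩ := ih hy' m
    let H : ℤ → Type u := fun i => ((DRing.tensorCx (Koszul.koszul A xs) M).homology i : Type u)
    have w1 : ∀ s : Fin ys.length → Bool, m + 1 + weight s = m + weight (Fin.cons true s) := fun s => by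
      rw [weight, weight, Fin.sum_univ_succ]
      simp only [Fin.cons_zero, Fin.cons_succ, if_true]
      ring
    have w0 : ∀ s : Fin ys.length → Bool, m + weight s = m + weight (Fin.cons false s) := fun s => by
      rw [weight, weight, Fin.sum_univ_succ]
      simp only [Fin.cons_zero, Fin.cons_succ, Bool.false_eq_true, if_false]
      ring
    exact ⟨((((consSplit hmem).tensor M).homologyEquiv m).trans
      ((e1.trans (LinearEquiv.piCongrRight fun s => homologyCongr _ (w1 s))).prodCongr
        (e0.trans (LinearEquiv.piCongrRight fun s => homologyCongr _ (w0 s))))).trans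
      (splitEquiv (fun r => (DRing.tensorCx (Koszul.koszul A xs) M).homology r)
        (fun t => m + weight t)).symm⟩

lemma card_weight (n j : ℕ) :
    Fintype.card {s : Fin n → Bool // weight s = (j : ℤ)} = n.choose j := by
  classical
  let e : {s : Fin n → Bool // weight s = (j : ℤ)} ≃ {t : Finset (Fin n) // t.card = j} :=
    { toFun := fun s => ⟨Finset.univ.filter fun i => s.1 i, by
        have := s.2
        simp only [weight, Finset.sum_boole] at this
        exact_mod_cast this⟩
      invFun := fun t => ⟨fun i => decide (i ∈ t.1), by simp [weight, t.2]⟩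
      left_inv := fun s => by ext i; simp
      right_inv := fun t => by ext i; simp }
  rw [Fintype.card_congr e, Fintype.card_finset_len, Fintype.card_fin]

lemma weight_lt {n : ℕ} (s : Fin n → Bool) : ∃ j : Fin (n + 1), weight s = (j : ℕ) := by
  have h : weight s = ((Finset.univ.filter fun i => s i).card : ℤ) := by simp [weight]
  refine ⟨⟨(Finset.univ.filter fun i => s i).card, ?_⟩, h⟩
  have := Finset.card_le_univ (Finset.univ.filter fun i => s i)
  simp at this
  omega

lemma nonempty_iso_append (M : ModuleCat.{u} A) (xs ys : List A)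
    (hy : ∀ y ∈ ys, y ∈ Ideal.ofList xs) (m : ℤ) :
    Nonempty ((DRing.tensorCx (Koszul.koszul A (xs ++ ys)) M).homology m ≅
      ModuleCat.of A ((j : Fin (ys.length + 1)) → Fin (ys.length.choose j) →
        (DRing.tensorCx (Koszul.koszul A xs) M).homology (m + j))) := by
  classical
  obtain ⟨e⟩ := nonempty_equiv_append (M := M) xs ys hy m
  obtain ⟨φ⟩ := nonempty_iso_of_perm (A := A) (List.perm_append_comm (l₁ := xs) (l₂ := ys))
  let φ' : ((DRing.tensorCx (Koszul.koszul A (xs ++ ys)) M).homology m : Type u) ≃ₗ[A]
      ((DRing.tensorCx (Koszul.koszul A (ys ++ xs)) M).homology m : Type u) :=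
    ((HomologicalComplex.homologyFunctor _ _ m).mapIso
      (((MonoidalCategory.tensorRight M).mapHomologicalComplex (ComplexShape.up ℤ)).mapIso φ)).toLinearEquiv
  choose w hw using fun (s : Fin ys.length → Bool) => weight_lt s
  have inj : ∀ (s) (j : Fin (ys.length + 1)), weight s = ((j : ℕ) : ℤ) → w s = j := fun s j h => by
    rw [hw s] at h
    exact Fin.ext (by exact_mod_cast h)
  let fib : ∀ j : Fin (ys.length + 1), Fin (ys.length.choose j) ≃
      {s : Fin ys.length → Bool // weight s = ((j : ℕ) : ℤ)} :=
    fun j => (Fintype.equivFinOfCardEq (card_weight _ _)).symm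
  let σ : (Σ j : Fin (ys.length + 1), Fin (ys.length.choose j)) ≃ (Fin ys.length → Bool) :=
    (Equiv.sigmaCongrRight fib).trans
      { toFun := fun x => x.2.1
        invFun := fun s => ⟨w s, s, hw s⟩
        left_inv := fun x => by
          obtain ⟨j, s, hs⟩ := x
          obtain rfl := inj s j hs
          rfl
        right_inv := fun _ => rfl }
  exact ⟨(φ'.trans (e.trans
    (((LinearEquiv.piCongrLeft A _ σ).symm.trans
      (LinearEquiv.piCongrRight fun x => homologyCongr _ (by
        show m + weight (σ x) = m + ((x.1 : ℕ) : ℤ)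
        rw [show weight (σ x) = ((x.1 : ℕ) : ℤ) from (fib x.1 x.2).2]))).trans
      (LinearEquiv.piCurry A fun (j : Fin (ys.length + 1)) (_ : Fin (ys.length.choose j)) =>
        ((DRing.tensorCx (Koszul.koszul A xs) M).homology (m + ((j : ℕ) : ℤ)) : Type u))))).toModuleIso⟩

end Groth.Agent.Koszul19
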