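import Groth.Prelude.Def_Koszul
import Mathlib.Algebra.Homology.ShortComplex.ModuleCat
import Mathlib.LinearAlgebra.Quotient.Basic
import Mathlib.LinearAlgebra.Prod

/-! Elementwise calculus of cones of multiplication maps on cochain complexes of modules. -/

universe u

open CategoryTheory CategoryTheory.Limits

namespace Groth.Agent.Koszul19

variable {A : Type u} [CommRing A]

/-- the differential as a linear map -/
noncomputable abbrev dd (K : CochainComplex (ModuleCat.{u} A) ℤ) (i j : ℤ) :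
    (K.X i : Type u) →ₗ[A] (K.X j : Type u) := (K.d i j).hom

lemma dd_dd (K : CochainComplex (ModuleCat.{u} A) ℤ) (i j k : ℤ) (x : K.X i) :
    dd K j k (dd K i j x) = 0 := by
  have := K.d_comp_d i j k
  exact congrArg (fun φ => φ.hom x) this

lemma range_le_ker (K : CochainComplex (ModuleCat.{u} A) ℤ) (i j k : ℤ) :
    LinearMap.range (dd K i j) ≤ LinearMap.ker (dd K j k) := by
  rintro _ ⟨w, rfl⟩
  exact dd_dd K i j k w

/-- elementwise exactness of `K` at `q` -/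
def Ex (K : CochainComplex (ModuleCat.{u} A) ℤ) (q : ℤ) : Prop :=
  ∀ (p j : ℤ), p + 1 = q → q + 1 = j → ∀ z : K.X q, dd K q j z = 0 → ∃ w, dd K p q w = z

lemma isZero_homology_iff_ex (K : CochainComplex (ModuleCat.{u} A) ℤ) (q : ℤ) :
    IsZero (K.homology q) ↔ Ex K q := by
  rw [← K.exactAt_iff_isZero_homology,
    K.exactAt_iff' (q - 1) q (q + 1) (by simp) (by simp),
    ShortComplex.moduleCat_exact_iff]
  constructor
  · intro h p j hp hj z hz
    obtain rfl : p = q - 1 := by omega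
    obtain rfl : j = q + 1 := by omega
    exact h z hz
  · intro h z hz
    exact h (q - 1) (q + 1) (by omega) rfl z hz

/-- homology at the middle index, elementwise -/
abbrev Hc (K : CochainComplex (ModuleCat.{u} A) ℤ) (p q j : ℤ) : Type u :=
  ↥(LinearMap.ker (dd K q j)) ⧸ (LinearMap.range (dd K p q)).comap (LinearMap.ker (dd K q j)).subtype

/-- homology as cycles modulo boundaries -/
noncomputable def homologyIsoHc (K : CochainComplex (ModuleCat.{u} A) ℤ) (p q j : ℤ)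
    (hp : p + 1 = q) (hj : q + 1 = j) : K.homology q ≅ ModuleCat.of A (Hc K p q j) :=
  ShortComplex.homologyMapIso (K.isoSc' p q j (by simp; omega) (by simp; omega)) ≪≫
    (K.sc' p q j).moduleCatHomologyIso ≪≫
    (Submodule.quotEquivOfEq _ _ (by
      ext ⟨z, hz⟩
      constructor
      · rintro ⟨w, hw⟩
        exact ⟨w, congrArg Subtype.val hw⟩
      · rintro ⟨w, hw⟩
        exact ⟨w, Subtype.ext hw⟩)).toModuleIso

lemma isZero_X_of_subsingleton {K : CochainComplex (ModuleCat.{u} A) ℤ} {q : ℤ}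
    [Subsingleton (K.X q : Type u)] : Ex K q := fun p _ _ _ z _ => ⟨0, Subsingleton.elim _ _⟩

/-- `L` is the cone of multiplication by `f` on `K`. -/
structure ConeData (f : A) (K L : CochainComplex (ModuleCat.{u} A) ℤ) : Type u where
  /-- the decomposition -/
  e : ∀ (q q₁ : ℤ), q + 1 = q₁ → (L.X q ≃ₗ[A] (K.X q₁ × K.X q : Type u))
  e_d_fst : ∀ (q q₁ q₂ : ℤ) (h : q + 1 = q₁) (h' : q₁ + 1 = q₂) (x : L.X q),
    (e q₁ q₂ h' (dd L q q₁ x)).1 = - dd K q₁ q₂ ((e q q₁ h x).1)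
  e_d_snd : ∀ (q q₁ q₂ : ℤ) (h : q + 1 = q₁) (h' : q₁ + 1 = q₂) (x : L.X q),
    (e q₁ q₂ h' (dd L q q₁ x)).2 = f • (e q q₁ h x).1 + dd K q q₁ ((e q q₁ h x).2)

namespace ConeData

variable {f : A} {K L : CochainComplex (ModuleCat.{u} A) ℤ} (c : ConeData f K L)

lemma d_eq (q q₁ q₂ : ℤ) (h : q + 1 = q₁) (h' : q₁ + 1 = q₂) (x : L.X q) :
    dd L q q₁ x = (c.e q₁ q₂ h').symm (- dd K q₁ q₂ ((c.e q q₁ h x).1),
      f • (c.e q q₁ h x).1 + dd K q q₁ ((c.e q q₁ h x).2)) := by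
  rw [LinearEquiv.eq_symm_apply, ← c.e_d_fst q q₁ q₂ h h' x, ← c.e_d_snd q q₁ q₂ h h' x]

lemma e_d_symm (q q₁ q₂ : ℤ) (h : q + 1 = q₁) (h' : q₁ + 1 = q₂)
    (a : K.X q₁) (b : K.X q) :
    c.e q₁ q₂ h' (dd L q q₁ ((c.e q q₁ h).symm (a, b))) =
      (- dd K q₁ q₂ a, f • a + dd K q q₁ b) := by
  rw [c.d_eq q q₁ q₂ h h', LinearEquiv.apply_symm_apply, LinearEquiv.apply_symm_apply]

lemma cycle_iff (q q₁ q₂ : ℤ) (h : q + 1 = q₁) (h' : q₁ + 1 = q₂) (x : L.X q) :
    dd L q q₁ x = 0 ↔ dd K q₁ q₂ ((c.e q q₁ h x).1) = 0 ∧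
      f • (c.e q q₁ h x).1 + dd K q q₁ ((c.e q q₁ h x).2) = 0 := by
  rw [← (c.e q₁ q₂ h').map_eq_zero_iff, Prod.ext_iff, c.e_d_fst q q₁ q₂ h h', c.e_d_snd q q₁ q₂ h h']
  simp [neg_eq_zero]

include c in
lemma subsingleton_X (q q₁ : ℤ) (h : q + 1 = q₁) [Subsingleton (K.X q : Type u)]
    [Subsingleton (K.X q₁ : Type u)] : Subsingleton (L.X q : Type u) :=
  (c.e q q₁ h).injective.subsingleton

/-- `L` is exact at `q` when `K` is exact at `q` and `q + 1`. -/
lemma ex (c : ConeData f K L) (q q₁ : ℤ) (h : q + 1 = q₁) (h0 : Ex K q) (h1 : Ex K q₁) :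
    Ex L q := by
  intro p j hp hj z hz
  obtain rfl : j = q₁ := by omega
  obtain ⟨ha, hb⟩ := (c.cycle_iff q j (j + 1) h rfl z).1 hz
  obtain ⟨w, hw⟩ := h1 q (j + 1) h rfl _ ha
  have hcyc : dd K q j (f • w + (c.e q j h z).2) = 0 := by
    rw [map_add, map_smul, hw, hb]
  obtain ⟨v, hv⟩ := h0 p j hp h _ hcyc
  refine ⟨(c.e p q hp).symm (-w, v), (c.e q j h).injective ?_⟩
  rw [c.e_d_symm p q j hp h, hv, map_neg, neg_neg, hw, smul_neg]
  simp

/-- an exact cone forces multiplication by `f` to be injective on cohomology -/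
lemma exists_of_ex (c : ConeData f K L) (p q j : ℤ) (hp : p + 1 = q) (hj : q + 1 = j)
    (hL : Ex L p) (a : K.X q) (ha : dd K q j a = 0) (b : K.X p) (hb : f • a + dd K p q b = 0) :
    ∃ w, dd K p q w = a := by
  have hz : dd L p q ((c.e p q hp).symm (a, b)) = 0 := by
    rw [c.cycle_iff p q j hp hj, LinearEquiv.apply_symm_apply]
    exact ⟨ha, hb⟩
  obtain ⟨w, hw⟩ := hL (p - 1) q (by omega) hp _ hz
  refine ⟨-(c.e (p - 1) p (by omega) w).1, ?_⟩
  have := c.e_d_fst (p - 1) p q (by omega) hp w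
  rw [hw, LinearEquiv.apply_symm_apply] at this
  rw [map_neg]
  exact this.symm

end ConeData

/-- build an isomorphism of complexes from componentwise linear equivalences -/
noncomputable def mkIso {K L : CochainComplex (ModuleCat.{u} A) ℤ}
    (e : ∀ q, (K.X q : Type u) ≃ₗ[A] (L.X q : Type u))
    (comm : ∀ q q₁, q + 1 = q₁ → ∀ x, e q₁ (dd K q q₁ x) = dd L q q₁ (e q x)) : K ≅ L :=
  HomologicalComplex.Hom.isoOfComponents (fun q => (e q).toModuleIso)
    (fun i j hij => by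
      ext x
      exact (comm i j hij x).symm)

/-- components of an isomorphism of complexes as linear equivalences -/
noncomputable def isoApp {K L : CochainComplex (ModuleCat.{u} A) ℤ} (φ : K ≅ L) (q : ℤ) :
    (K.X q : Type u) ≃ₗ[A] (L.X q : Type u) :=
  (HomologicalComplex.Hom.isoApp φ q).toLinearEquiv

lemma isoApp_d {K L : CochainComplex (ModuleCat.{u} A) ℤ} (φ : K ≅ L) (q q₁ : ℤ) (x : K.X q) :
    isoApp φ q₁ (dd K q q₁ x) = dd L q q₁ (isoApp φ q x) := by
  have := φ.hom.comm q q₁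
  exact (congrArg (fun ψ => ψ.hom x) this).symm

lemma Ex.of_iso {K L : CochainComplex (ModuleCat.{u} A) ℤ} (φ : K ≅ L) {q : ℤ} (h : Ex K q) :
    Ex L q := by
  rw [← isZero_homology_iff_ex] at h ⊢
  exact h.of_iso ((HomologicalComplex.homologyFunctor _ _ q).mapIso φ).symm

namespace ConeData

/-- cone data transported along isomorphisms -/
noncomputable def congr {f : A} {K K' L : CochainComplex (ModuleCat.{u} A) ℤ} (c : ConeData f K L)
    (φ : K ≅ K') : ConeData f K' L where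
  e q q₁ h := (c.e q q₁ h).trans ((isoApp φ q₁).prodCongr (isoApp φ q))
  e_d_fst q q₁ q₂ h h' x := by
    simp [LinearEquiv.trans_apply, c.e_d_fst q q₁ q₂ h h', isoApp_d]
  e_d_snd q q₁ q₂ h h' x := by
    simp [LinearEquiv.trans_apply, c.e_d_snd q q₁ q₂ h h', isoApp_d]

/-- two cones of the same map are isomorphic -/
noncomputable def iso {f : A} {K L L' : CochainComplex (ModuleCat.{u} A) ℤ} (c : ConeData f K L)
    (c' : ConeData f K L') : L ≅ L' :=
  mkIso (fun q => (c.e q (q + 1) rfl).trans (c'.e q (q + 1) rfl).symm) (fun q q₁ h x => by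
    subst h
    simp only [LinearEquiv.trans_apply]
    apply (c'.e (q + 1) (q + 1 + 1) rfl).injective
    rw [LinearEquiv.apply_symm_apply, ← Prod.mk.eta (p := c.e q (q + 1) rfl x),
      c'.e_d_symm q (q + 1) (q + 1 + 1) rfl rfl, c.d_eq q (q + 1) (q + 1 + 1) rfl rfl x,
      LinearEquiv.apply_symm_apply])

/-- the degreewise swap -/
noncomputable def swapApp {f g : A} {K L M L' M' : CochainComplex (ModuleCat.{u} A) ℤ}
    (c₁ : ConeData g K L) (c₂ : ConeData f L M) (c₁' : ConeData f K L') (c₂' : ConeData g L' M')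
    (q q₁ q₂ : ℤ) (h : q + 1 = q₁) (h' : q₁ + 1 = q₂) : (M.X q : Type u) ≃ₗ[A] (M'.X q : Type u) :=
  (((c₂.e q q₁ h).trans
      ((c₁.e q₁ q₂ h').prodCongr (c₁.e q q₁ h))).trans
      ((LinearEquiv.prodProdProdComm A _ _ _ _).trans
        (((LinearEquiv.neg A).prodCongr (LinearEquiv.refl A _)).prodCongr (LinearEquiv.refl A _)))).trans
      (((c₁'.e q₁ q₂ h').prodCongr (c₁'.e q q₁ h)).symm.trans
        (c₂'.e q q₁ h).symm)

lemma swapApp_eq {f g : A} {K L M L' M' : CochainComplex (ModuleCat.{u} A) ℤ}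
    (c₁ : ConeData g K L) (c₂ : ConeData f L M) (c₁' : ConeData f K L') (c₂' : ConeData g L' M')
    (q q₁ q₂ : ℤ) (h : q + 1 = q₁) (h' : q₁ + 1 = q₂) (a : K.X q₂) (b : K.X q₁) (c : K.X q₁) (e : K.X q) :
    swapApp c₁ c₂ c₁' c₂' q q₁ q₂ h h'
        ((c₂.e q q₁ h).symm ((c₁.e q₁ q₂ h').symm (a, b), (c₁.e q q₁ h).symm (c, e))) =
      (c₂'.e q q₁ h).symm ((c₁'.e q₁ q₂ h').symm (-a, c), (c₁'.e q q₁ h).symm (b, e)) := by
  simp only [swapApp, LinearEquiv.trans_apply, LinearEquiv.apply_symm_apply,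
    LinearEquiv.prodCongr_apply, LinearEquiv.prodCongr_symm, LinearEquiv.prodProdProdComm_apply,
    LinearEquiv.refl_apply, LinearEquiv.neg_apply]

lemma swapApp_comm {f g : A} {K L M L' M' : CochainComplex (ModuleCat.{u} A) ℤ}
    (c₁ : ConeData g K L) (c₂ : ConeData f L M) (c₁' : ConeData f K L') (c₂' : ConeData g L' M')
    (q q₁ q₂ q₃ : ℤ) (h : q + 1 = q₁) (h' : q₁ + 1 = q₂) (h'' : q₂ + 1 = q₃) (x : M.X q) :
    swapApp c₁ c₂ c₁' c₂' q₁ q₂ q₃ h' h'' (dd M q q₁ x) =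
      dd M' q q₁ (swapApp c₁ c₂ c₁' c₂' q q₁ q₂ h h' x) := by
  obtain ⟨⟨X, Y⟩, rfl⟩ := (c₂.e q q₁ h).symm.surjective x
  obtain ⟨⟨a, b⟩, rfl⟩ := (c₁.e q₁ q₂ h').symm.surjective X
  obtain ⟨⟨c, e⟩, rfl⟩ := (c₁.e q q₁ h).symm.surjective Y
  have e1 : dd M q q₁ ((c₂.e q q₁ h).symm ((c₁.e q₁ q₂ h').symm (a, b), (c₁.e q q₁ h).symm (c, e)))
      = (c₂.e q₁ q₂ h').symm ((c₁.e q₂ q₃ h'').symm (dd K q₂ q₃ a, -(g • a + dd K q₁ q₂ b)),
          (c₁.e q₁ q₂ h').symm (f • a - dd K q₁ q₂ c, f • b + (g • c + dd K q q₁ e))) := by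
    rw [LinearEquiv.eq_symm_apply, c₂.e_d_symm q q₁ q₂ h h']
    apply Prod.ext
    · apply (c₁.e q₂ q₃ h'').injective
      rw [map_neg, c₁.e_d_symm q₁ q₂ q₃ h' h'', LinearEquiv.apply_symm_apply]
      simp
    · apply (c₁.e q₁ q₂ h').injective
      rw [map_add, map_smul, c₁.e_d_symm q q₁ q₂ h h', LinearEquiv.apply_symm_apply,
        LinearEquiv.apply_symm_apply]
      simp [sub_eq_add_neg]
  rw [e1, swapApp_eq, swapApp_eq, LinearEquiv.symm_apply_eq, c₂'.e_d_symm q q₁ q₂ h h']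
  apply Prod.ext
  · apply (c₁'.e q₂ q₃ h'').injective
    rw [map_neg, c₁'.e_d_symm q₁ q₂ q₃ h' h'', LinearEquiv.apply_symm_apply]
    simp [sub_eq_add_neg]
    abel
  · apply (c₁'.e q₁ q₂ h').injective
    rw [map_add, map_smul, c₁'.e_d_symm q q₁ q₂ h h', LinearEquiv.apply_symm_apply,
      LinearEquiv.apply_symm_apply]
    simp
    abel_nf
    simp

/-- swapping two cones -/
noncomputable def swap {f g : A} {K L M L' M' : CochainComplex (ModuleCat.{u} A) ℤ}
    (c₁ : ConeData g K L) (c₂ : ConeData f L M) (c₁' : ConeData f K L') (c₂' : ConeData g L' M') :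
    M ≅ M' :=
  mkIso (fun q => swapApp c₁ c₂ c₁' c₂' q (q + 1) (q + 1 + 1) rfl rfl) (fun q q₁ h x => by
    subst h
    exact swapApp_comm c₁ c₂ c₁' c₂' q _ _ _ rfl rfl rfl x)

/-- the standard mapping cone -/
noncomputable def standard (f : A) (K : CochainComplex (ModuleCat.{u} A) ℤ) :
    ConeData f K (CochainComplex.mappingCone (f • 𝟙 K)) where
  e q q₁ h :=
    LinearEquiv.ofLinearMap
      (((CochainComplex.mappingCone.fst (f • 𝟙 K)).1.v q q₁ h).hom.prod
        ((CochainComplex.mappingCone.snd (f • 𝟙 K)).v q q (add_zero q)).hom)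
      (((CochainComplex.mappingCone.inl (f • 𝟙 K)).v q₁ q (by omega)).hom.coprod
        ((CochainComplex.mappingCone.inr (f • 𝟙 K)).f q).hom)
      (by
        apply LinearMap.ext
        rintro ⟨a, b⟩
        have e1 := congrArg (fun ψ => ψ.hom a)
          (CochainComplex.mappingCone.inl_v_fst_v (f • 𝟙 K) q₁ q h)
        have e2 := congrArg (fun ψ => ψ.hom a)
          (CochainComplex.mappingCone.inl_v_snd_v (f • 𝟙 K) q₁ q (by omega))
        have e3 := congrArg (fun ψ => ψ.hom b)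
          (CochainComplex.mappingCone.inr_f_fst_v (f • 𝟙 K) q q₁ h)
        have e4 := congrArg (fun ψ => ψ.hom b)
          (CochainComplex.mappingCone.inr_f_snd_v (f • 𝟙 K) q)
        simp only [ModuleCat.hom_comp, ModuleCat.hom_id, LinearMap.comp_apply, LinearMap.id_apply,
          ModuleCat.hom_zero, LinearMap.zero_apply] at e1 e2 e3 e4
        simp [e1, e2, e3, e4])
      (by
        apply LinearMap.ext
        intro x
        exact (congrArg (fun ψ => ψ.hom x)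
          (CochainComplex.mappingCone.id_X (f • 𝟙 K) q q₁ h)))
  e_d_fst q q₁ q₂ h h' x :=
    congrArg (fun ψ => ψ.hom x) (CochainComplex.mappingCone.d_fst_v (f • 𝟙 K) q q₁ q₂ h h')
  e_d_snd q q₁ q₂ h h' x := by
    have := congrArg (fun ψ => ψ.hom x) (CochainComplex.mappingCone.d_snd_v (f • 𝟙 K) q q₁ h)
    simpa using this

end ConeData

end Groth.Agent.Koszul19
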