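import Groth.Agent.Koszul19.Seq
import Mathlib.RingTheory.Ideal.Operations

/-! Multiplying all entries of a sequence by one element. -/

universe u

open CategoryTheory

namespace Groth.Agent.Koszul19

variable {A : Type u} [CommRing A]

lemma exists_scale_equiv_aux (l : List A) (x : A) :
    ∀ l' : List A, l' = (l.map fun f => x * f) →
    ∃ e : ∀ q : ℤ, ((Koszul.koszul A l').X q : Type u) ≃ₗ[A]
        ((Koszul.koszul A l).X q : Type u),
      ∀ (q q₁ : ℤ), q + 1 = q₁ → ∀ z,
        e q₁ (dd _ q q₁ z) = x • dd (Koszul.koszul A l) q q₁ (e q z) := by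
  induction l with
  | nil =>
    intro l' hl'
    subst hl'
    refine ⟨fun q => LinearEquiv.refl A _, fun q q₁ h z => ?_⟩
    by_cases hq : q = 0
    · have := subsingleton_nil (A := A) (show q₁ ≠ 0 by omega)
      exact Subsingleton.elim (α := ((Koszul.koszul A []).X q₁ : Type u)) _ _
    · have := subsingleton_nil (A := A) hq
      show dd (Koszul.koszul A []) q q₁ z = x • dd (Koszul.koszul A []) q q₁ z
      rw [Subsingleton.elim (α := ((Koszul.koszul A []).X q : Type u)) z 0]
      simp
  | cons f l ih =>
    intro l' hl'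
    rw [List.map_cons] at hl'
    subst hl'
    obtain ⟨e, he⟩ := ih _ rfl
    refine ⟨fun q => ((consData (x * f) _).e q (q + 1) rfl).trans
      (((e (q + 1)).prodCongr (e q)).trans ((consData f l).e q (q + 1) rfl).symm),
      fun q q₁ h z => ?_⟩
    subst h
    apply ((consData f l).e (q + 1) (q + 1 + 1) rfl).injective
    simp only [LinearEquiv.trans_apply, LinearEquiv.apply_symm_apply, map_smul,
      LinearEquiv.prodCongr_apply]
    rw [(consData (x * f) _).e_d_fst q (q + 1) (q + 1 + 1) rfl rfl,
      (consData (x * f) _).e_d_snd q (q + 1) (q + 1 + 1) rfl rfl,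
      (consData f l).e_d_symm q (q + 1) (q + 1 + 1) rfl rfl]
    apply Prod.ext
    · simp [he (q + 1) (q + 1 + 1) rfl]
    · simp [he q (q + 1) rfl, mul_smul]

lemma exists_scale_equiv (l : List A) (x : A) :
    ∃ e : ∀ q : ℤ, ((Koszul.koszul A (l.map fun f => x * f)).X q : Type u) ≃ₗ[A]
        ((Koszul.koszul A l).X q : Type u),
      ∀ (q q₁ : ℤ), q + 1 = q₁ → ∀ z,
        e q₁ (dd _ q q₁ z) = x • dd (Koszul.koszul A l) q q₁ (e q z) :=
  exists_scale_equiv_aux l x _ rfl

lemma injective_smul (l : List A) {x : A} (hx : x ∈ nonZeroDivisors A) (q : ℤ) :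
    ∀ z : (Koszul.koszul A l).X q, x • z = 0 → z = 0 := by
  induction l generalizing q with
  | nil =>
    intro z hz
    by_cases hq : q = 0
    · subst hq
      apply nilZero.injective
      have := congrArg nilZero hz
      rw [map_smul, map_zero, smul_eq_mul] at this
      rw [map_zero]
      exact hx.1 _ this
    · exact (subsingleton_nil (A := A) hq).elim _ _
  | cons f l ih =>
    intro z hz
    apply ((consData f l).e q (q + 1) rfl).injective
    have := congrArg ((consData f l).e q (q + 1) rfl) hz
    rw [map_smul, map_zero, Prod.ext_iff] at this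
    rw [map_zero]
    exact Prod.ext (ih _ _ this.1) (ih _ _ this.2)

lemma mem_span_singleton_smul_iff {M : Type u} [AddCommGroup M] [Module A M] (N : Submodule A M)
    (x : A) (m : M) : m ∈ Ideal.span {x} • N ↔ ∃ n ∈ N, x • n = m := by
  rw [Submodule.ideal_span_singleton_smul, Submodule.mem_smul_pointwise_iff_exists]

lemma range_le_ker' (K : CochainComplex (ModuleCat.{u} A) ℤ) (p q j : ℤ) (x : A) :
    Ideal.span {x} • LinearMap.range (dd K p q) ≤ LinearMap.ker (dd K q j) :=
  Submodule.smul_le_right.trans (range_le_ker K p q j)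

/-- cohomology of the scaled sequence -/
noncomputable def hcScale (l : List A) {x : A} (hx : x ∈ nonZeroDivisors A) (p q j : ℤ)
    (hp : p + 1 = q) (hj : q + 1 = j) :
    Hc (Koszul.koszul A (l.map fun f => x * f)) p q j ≃ₗ[A]
      (↥(LinearMap.ker (dd (Koszul.koszul A l) q j)) ⧸
        Submodule.comap (LinearMap.ker (dd (Koszul.koszul A l) q j)).subtype
          (Ideal.span {x} • LinearMap.range (dd (Koszul.koszul A l) p q))) :=
  let e := (exists_scale_equiv l x).choose
  have he := (exists_scale_equiv l x).choose_spec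
  Submodule.Quotient.equiv _ _
    ((e q).ofSubmodules _ _ (by
      ext w
      simp only [Submodule.mem_map, LinearMap.mem_ker, LinearEquiv.coe_coe]
      constructor
      · rintro ⟨z, hz, rfl⟩
        apply injective_smul l hx
        rw [← he q j hj, hz, map_zero]
      · intro hw
        refine ⟨(e q).symm w, (e j).injective ?_, (e q).apply_symm_apply w⟩
        rw [he q j hj, LinearEquiv.apply_symm_apply, hw, smul_zero, map_zero]))
    (by
      ext ⟨w, hw⟩
      simp only [Submodule.mem_map, Submodule.mem_comap, Submodule.subtype_apply,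
        mem_span_singleton_smul_iff]
      constructor
      · rintro ⟨⟨z, hz⟩, ⟨u, hu⟩, hzw⟩
        refine ⟨dd _ p q (e p u), ⟨_, rfl⟩, ?_⟩
        rw [← he p q hp, hu]
        exact congrArg Subtype.val hzw
      · rintro ⟨_, ⟨v, rfl⟩, hv⟩
        refine ⟨⟨dd _ p q ((e p).symm v), dd_dd _ p q j _⟩, ⟨_, rfl⟩, Subtype.ext ?_⟩
        show e q (dd _ p q ((e p).symm v)) = w
        rw [he p q hp, LinearEquiv.apply_symm_apply, hv])

end Groth.Agent.Koszul19
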