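import Groth.Agent.Koszul19.BaseChange
import Groth.Agent.Koszul19.Scale
import Groth.Agent.Koszul19.Homotopy
import Mathlib.LinearAlgebra.TensorProduct.Quotient
import Mathlib.RingTheory.Ideal.Quotient.Operations

/-! Dividing a Koszul complex by a regular element. -/

universe u

open CategoryTheory TensorProduct

namespace Groth.Agent.Koszul19

variable {A : Type u} [CommRing A] {B : Type u} [CommRing B] [Algebra A B]

lemma one_tmul_surjective (hs : Function.Surjective (algebraMap A B)) {M : Type u} [AddCommGroup M]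
    [Module A M] (z : B ⊗[A] M) : ∃ m, (1 : B) ⊗ₜ[A] m = z := by
  induction z with
  | zero => exact ⟨0, TensorProduct.tmul_zero _ _⟩
  | add x y hx hy =>
    obtain ⟨a, rfl⟩ := hx
    obtain ⟨b, rfl⟩ := hy
    exact ⟨a + b, TensorProduct.tmul_add _ _ _⟩
  | tmul b m =>
    obtain ⟨a, rfl⟩ := hs b
    exact ⟨a • m, by rw [Algebra.algebraMap_eq_smul_one, TensorProduct.smul_tmul]⟩

lemma one_tmul_eq_zero_iff (hs : Function.Surjective (algebraMap A B)) {f : A}
    (hker : RingHom.ker (algebraMap A B) = Ideal.span {f}) {M : Type u} [AddCommGroup M]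
    [Module A M] (m : M) : (1 : B) ⊗ₜ[A] m = 0 ↔ ∃ n : M, f • n = m := by
  have e : (A ⧸ Ideal.span {f}) ≃ₐ[A] B :=
    (Ideal.quotientEquivAlgOfEq A (hker.symm.trans (by rfl))).trans
      (Ideal.quotientKerAlgEquivOfSurjective (f := Algebra.ofId A B) hs)
  have h1 : (1 : B) ⊗ₜ[A] m = 0 ↔ (1 : A ⧸ Ideal.span {f}) ⊗ₜ[A] m = 0 := by
    rw [← (TensorProduct.congr e.toLinearEquiv (LinearEquiv.refl A M)).map_eq_zero_iff
      (x := (1 : A ⧸ Ideal.span {f}) ⊗ₜ[A] m), TensorProduct.congr_tmul]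
    simp
  rw [h1, ← (TensorProduct.quotTensorEquivQuotSMul M (Ideal.span {f})).map_eq_zero_iff,
    ← map_one (Ideal.Quotient.mk (Ideal.span {f})),
    TensorProduct.quotTensorEquivQuotSMul_mk_tmul, one_smul, Submodule.Quotient.mk_eq_zero,
    mem_span_singleton_smul_iff]
  simp

/-- the cone of a regular element computes the reduction -/
lemma ex_cone_iff (hs : Function.Surjective (algebraMap A B)) {f : A}
    (hker : RingHom.ker (algebraMap A B) = Ideal.span {f})
    {K M : CochainComplex (ModuleCat.{u} A) ℤ} {L : CochainComplex (ModuleCat.{u} B) ℤ}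
    (c : ConeData f K M) (d : BCData B K L)
    (hK : ∀ (r : ℤ) (z : K.X r), f • z = 0 → z = 0) (q : ℤ) : Ex M q ↔ Ex L q := by
  have θd : ∀ (r r₁ : ℤ), r + 1 = r₁ → ∀ y : K.X r,
      dd L r r₁ (d.e r ((1 : B) ⊗ₜ[A] y)) = d.e r₁ ((1 : B) ⊗ₜ[A] dd K r r₁ y) := by
    intro r r₁ h y
    rw [← d.comm r r₁ h, LinearMap.baseChange_tmul]
  constructor
  · intro hM p j hp hj z hz
    obtain ⟨t, rfl⟩ := (d.e q).surjective z
    obtain ⟨y, rfl⟩ := one_tmul_surjective hs t
    rw [θd q j hj, LinearEquiv.map_eq_zero_iff, one_tmul_eq_zero_iff hs hker] at hz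
    obtain ⟨a', ha'⟩ := hz
    have hda : dd K j (j + 1) a' = 0 := hK _ _ (by rw [← map_smul, ha', dd_dd])
    obtain ⟨w, hw⟩ := hM p j hp hj ((c.e q j hj).symm (-a', y)) (by
      rw [c.cycle_iff q j (j + 1) hj rfl, LinearEquiv.apply_symm_apply]
      exact ⟨by rw [map_neg, hda, neg_zero], by rw [smul_neg, ha', neg_add_cancel]⟩)
    have h2 := c.e_d_snd p q j hp hj w
    rw [hw, LinearEquiv.apply_symm_apply] at h2
    refine ⟨d.e p ((1 : B) ⊗ₜ[A] (c.e p q hp w).2), ?_⟩
    rw [θd p q hp, ← sub_eq_zero, ← map_sub, ← TensorProduct.tmul_sub, LinearEquiv.map_eq_zero_iff,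
      one_tmul_eq_zero_iff hs hker]
    exact ⟨-(c.e p q hp w).1, by simp only at h2; rw [h2, smul_neg]; abel⟩
  · intro hL p j hp hj z hz
    obtain ⟨ha, hb⟩ := (c.cycle_iff q j (j + 1) hj rfl z).1 hz
    set a := (c.e q j hj z).1 with ha'
    set b := (c.e q j hj z).2 with hb'
    obtain ⟨W, hW⟩ := hL p j hp hj (d.e q ((1 : B) ⊗ₜ[A] b)) (by
      rw [θd q j hj, LinearEquiv.map_eq_zero_iff, one_tmul_eq_zero_iff hs hker]
      exact ⟨-a, by rw [smul_neg]; exact (eq_neg_of_add_eq_zero_right hb).symm⟩)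
    obtain ⟨t, rfl⟩ := (d.e p).surjective W
    obtain ⟨w, rfl⟩ := one_tmul_surjective hs t
    rw [θd p q hp, ← sub_eq_zero, ← map_sub, ← TensorProduct.tmul_sub, LinearEquiv.map_eq_zero_iff,
      one_tmul_eq_zero_iff hs hker] at hW
    obtain ⟨c', hc'⟩ := hW
    have hd : dd K q j c' = a := by
      have h3 : dd K q j (dd K p q w - b) = dd K q j (f • c') := by rw [hc']
      rw [map_sub, dd_dd, zero_sub, map_smul, ← eq_neg_of_add_eq_zero_left hb] at h3
      exact (sub_eq_zero.1 (hK _ _ (by rw [smul_sub, h3, sub_self]))).symm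
    refine ⟨(c.e p q hp).symm (-c', w), (c.e q j hj).injective ?_⟩
    rw [c.e_d_symm p q j hp hj, map_neg, neg_neg, hd, smul_neg, hc']
    exact Prod.ext ha' (by simp [← hb'])

/-- a regular element can be removed -/
lemma kR_cons_iff_map (hs : Function.Surjective (algebraMap A B)) {f : A}
    (hf : f ∈ nonZeroDivisors A) (hker : RingHom.ker (algebraMap A B) = Ideal.span {f})
    (l : List A) : KR (f :: l) ↔ KR (l.map (algebraMap A B)) := by
  simp only [KR, ex_cone_iff hs hker (consData f l) (bcKoszul l) (fun r z => injective_smul l hf r z)]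

end Groth.Agent.Koszul19
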