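import Groth.Agent.Koszul19.Scale
import Mathlib.Algebra.Category.ModuleCat.Limits
import Mathlib.CategoryTheory.Limits.Types.Pullbacks
import Mathlib.LinearAlgebra.TensorProduct.Quotient
import Mathlib.Algebra.Regular.SMul

/-! Quotient squares. -/

universe u

open CategoryTheory CategoryTheory.Limits

namespace Groth.Agent.Koszul19

variable {A : Type u} [CommRing A] {M : Type u} [AddCommGroup M] [Module A M]

lemma isPullback_factor {P Q N S : Submodule A M} (hQ : P ≤ Q) (hN : P ≤ N) (hQS : Q ≤ S)
    (hNS : N ≤ S) (hinf : Q ⊓ N ≤ P) (hsup : S ≤ Q ⊔ N) :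
    IsPullback (ModuleCat.ofHom (Submodule.factor hQ)) (ModuleCat.ofHom (Submodule.factor hN))
      (ModuleCat.ofHom (Submodule.factor hQS)) (ModuleCat.ofHom (Submodule.factor hNS)) := by
  refine IsPullback.of_map (forget (ModuleCat.{u} A)) ?_ ?_
  · ext m
    rfl
  · rw [Types.isPullback_iff]
    refine ⟨?_, ?_, ?_⟩
    · refine ConcreteCategory.hom_ext _ _ fun m => ?_
      obtain ⟨m, rfl⟩ := Submodule.Quotient.mk_surjective _ m
      rfl
    · rintro a b ⟨h1, h2⟩
      obtain ⟨a, rfl⟩ := Submodule.Quotient.mk_surjective _ a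
      obtain ⟨b, rfl⟩ := Submodule.Quotient.mk_surjective _ b
      exact (Submodule.Quotient.eq _).2
        (hinf ⟨(Submodule.Quotient.eq _).1 h1, (Submodule.Quotient.eq _).1 h2⟩)
    · intro y z h
      obtain ⟨y, rfl⟩ := Submodule.Quotient.mk_surjective _ y
      obtain ⟨z, rfl⟩ := Submodule.Quotient.mk_surjective _ z
      obtain ⟨a, ha, b, hb, hab⟩ := Submodule.mem_sup.1 (hsup ((Submodule.Quotient.eq _).1 h))
      refine ⟨Submodule.Quotient.mk (y - a), ?_, ?_⟩
      · refine (Submodule.Quotient.eq _).2 ?_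
        simpa using neg_mem ha
      · refine (Submodule.Quotient.eq _).2 ?_
        simp only [LinearMap.id_apply] at hab ⊢
        rw [show y - a - z = b by rw [eq_sub_of_add_eq' hab]; abel]
        exact hb

lemma isPullback_of_regular {B Z : Submodule A M} (hBZ : B ≤ Z) (x : A)
    (hxH : IsSMulRegular (↥Z ⧸ Submodule.comap Z.subtype B) x) :
    IsPullback
      (ModuleCat.ofHom (Submodule.factor (Submodule.comap_mono (Submodule.smul_mono le_rfl hBZ) :
        Submodule.comap Z.subtype (Ideal.span {x} • B) ≤ Submodule.comap Z.subtype (Ideal.span {x} • Z))))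
      (ModuleCat.ofHom (Submodule.factor (Submodule.comap_mono Submodule.smul_le_right :
        Submodule.comap Z.subtype (Ideal.span {x} • B) ≤ Submodule.comap Z.subtype B)))
      (ModuleCat.ofHom (Submodule.factor (Submodule.comap_mono le_sup_right :
        Submodule.comap Z.subtype (Ideal.span {x} • Z) ≤
          Submodule.comap Z.subtype (B ⊔ Ideal.span {x} • Z))))
      (ModuleCat.ofHom (Submodule.factor (Submodule.comap_mono le_sup_left :
        Submodule.comap Z.subtype B ≤ Submodule.comap Z.subtype (B ⊔ Ideal.span {x} • Z)))) := by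
  refine isPullback_factor _ _ _ _ ?_ ?_
  · rintro m ⟨h1, h2⟩
    rw [SetLike.mem_coe, Submodule.mem_comap, Submodule.subtype_apply] at h1 h2
    obtain ⟨n, hn, hnm⟩ := (mem_span_singleton_smul_iff Z x _).1 h1
    have : (Submodule.Quotient.mk ⟨n, hn⟩ : ↥Z ⧸ Submodule.comap Z.subtype B) = 0 := by
      apply hxH
      simp only [smul_zero]
      rw [← Submodule.Quotient.mk_smul, Submodule.Quotient.mk_eq_zero, Submodule.mem_comap]
      simpa [hnm] using h2
    rw [Submodule.mem_comap, Submodule.subtype_apply, mem_span_singleton_smul_iff]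
    exact ⟨n, by simpa using (Submodule.Quotient.mk_eq_zero _).1 this, hnm⟩
  · intro m hm
    rw [Submodule.mem_comap, Submodule.subtype_apply] at hm
    obtain ⟨b, hb, c, hc, hbc⟩ := Submodule.mem_sup.1 hm
    refine Submodule.mem_sup.2 ⟨⟨c, Submodule.smul_le_right hc⟩, hc, ⟨b, hBZ hb⟩, hb,
      Subtype.ext ?_⟩
    simp only [Submodule.coe_add]
    rw [add_comm, hbc]

/-- the negative degree case -/
noncomputable def hcScaleTensor (l : List A) (hl : KR l) {x : A} (hx : x ∈ nonZeroDivisors A)
    (p q j : ℤ) (hp : p + 1 = q) (hj : q + 1 = j) (hq : q ≠ 0) :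
    Hc (Koszul.koszul A (l.map fun f => x * f)) p q j ≃ₗ[A]
      TensorProduct A (↥(LinearMap.ker (dd (Koszul.koszul A l) q j))) (A ⧸ Ideal.span {x}) :=
  (hcScale l hx p q j hp hj).trans ((Submodule.quotEquivOfEq _ _ (by
    have hBZ : LinearMap.range (dd (Koszul.koszul A l) p q) =
        LinearMap.ker (dd (Koszul.koszul A l) q j) :=
      le_antisymm (range_le_ker _ _ _ _) fun z hz => hl q hq p j hp hj z hz
    rw [hBZ]
    ext ⟨z, hz⟩
    rw [Submodule.mem_comap, Submodule.subtype_apply, mem_span_singleton_smul_iff,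
      mem_span_singleton_smul_iff]
    constructor
    · rintro ⟨n, hn, e⟩
      exact ⟨⟨n, hn⟩, trivial, Subtype.ext e⟩
    · rintro ⟨⟨n, hn⟩, -, e⟩
      exact ⟨n, hn, congrArg Subtype.val e⟩)).trans
    (TensorProduct.tensorQuotEquivQuotSMul _ _).symm)

end Groth.Agent.Koszul19
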