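import Groth.Prelude.Def_Koszul
import Groth.Prelude.Def_DTen
import Mathlib.Algebra.Homology.Monoidal
import Mathlib.Algebra.Homology.HomotopyCategory.Pretriangulated
import Mathlib.CategoryTheory.Monoidal.Linear
import Mathlib.Algebra.Category.ModuleCat.Monoidal.Basic
import Mathlib.Algebra.Category.ModuleCat.Monoidal.Closed

/-!
The tensor product of complexes of modules commutes with mapping cones in the first variable.
-/

universe u

open CategoryTheory CategoryTheory.Limits MonoidalCategory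
open CochainComplex CochainComplex.HomComplex CochainComplex.mappingCone

namespace Groth.Agent.Koszul19.TensorCone

set_option autoImplicit false

variable {A : Type u} [CommRing A]

/-- the tensor product of two complexes of modules -/
noncomputable abbrev tens (K L : CochainComplex (ModuleCat.{u} A) ℤ) : CochainComplex (ModuleCat.{u} A) ℤ :=
  HomologicalComplex.tensorObj K L

/-- tensoring a morphism with a complex -/
noncomputable abbrev tensR {K G : CochainComplex (ModuleCat.{u} A) ℤ} (φ : K ⟶ G)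
    (L : CochainComplex (ModuleCat.{u} A) ℤ) : tens K L ⟶ tens G L :=
  HomologicalComplex.tensorHom φ (𝟙 L)

/-- a summand -/
noncomputable abbrev inT (K L : CochainComplex (ModuleCat.{u} A) ℤ) (i j n : ℤ) (h : i + j = n) :
    K.X i ⊗ L.X j ⟶ (tens K L).X n :=
  HomologicalComplex.ιTensorObj K L i j n h

theorem inT_tensR {K G : CochainComplex (ModuleCat.{u} A) ℤ} (φ : K ⟶ G)
    (L : CochainComplex (ModuleCat.{u} A) ℤ) (i j n : ℤ) (h : i + j = n) :
    inT K L i j n h ≫ (tensR φ L).f n = (φ.f i ▷ L.X j) ≫ inT G L i j n h := by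
  simp [tensR, inT]

theorem inT_d (K L : CochainComplex (ModuleCat.{u} A) ℤ) (i j n n' : ℤ) (h : i + j = n) (h' : n + 1 = n') :
    inT K L i j n h ≫ (tens K L).d n n' =
      (K.d i (i + 1) ▷ L.X j) ≫ inT K L (i + 1) j n' (by lia) +
        i.negOnePow • ((K.X i ◁ L.d j (j + 1)) ≫ inT K L i (j + 1) n' (by lia)) := by
  rw [HomologicalComplex.mapBifunctor.d_eq, Preadditive.comp_add, HomologicalComplex.mapBifunctor.ι_D₁,
    HomologicalComplex.mapBifunctor.ι_D₂,
    HomologicalComplex.mapBifunctor.d₁_eq _ _ _ _ (show (ComplexShape.up ℤ).Rel i (i + 1) from rfl) j n'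
      (show i + 1 + j = n' by lia),
    HomologicalComplex.mapBifunctor.d₂_eq _ _ _ _ i (show (ComplexShape.up ℤ).Rel j (j + 1) from rfl) n'
      (show i + (j + 1) = n' by lia)]
  rw [show ComplexShape.ε₁ (ComplexShape.up ℤ) (ComplexShape.up ℤ) (ComplexShape.up ℤ) (i, j) = 1 from rfl,
    one_smul]
  rfl

theorem sub_whisker {X Y : ModuleCat.{u} A} (f g : X ⟶ Y) (Z : ModuleCat.{u} A) :
    (f - g) ▷ Z = f ▷ Z - g ▷ Z :=
  eq_sub_of_add_eq (by rw [← MonoidalPreadditive.add_whiskerRight, sub_add_cancel])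

variable {K G : CochainComplex (ModuleCat.{u} A) ℤ} (φ : K ⟶ G) (L : CochainComplex (ModuleCat.{u} A) ℤ)

/-- the first component -/
noncomputable def alpha : Cochain (tens K L) (tens (mappingCone φ) L) (-1) :=
  Cochain.mk fun n m h => HomologicalComplex.mapBifunctorDesc fun i j (hij : i + j = n) =>
    ((inl φ).v i (i - 1) (by lia) ▷ L.X j) ≫ inT (mappingCone φ) L (i - 1) j m (by lia)

theorem inT_alpha (i j n m k : ℤ) (hij : i + j = n) (h : n + (-1) = m) (hk : i + (-1) = k) :
    inT K L i j n hij ≫ (alpha φ L).v n m h =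
      ((inl φ).v i k hk ▷ L.X j) ≫ inT (mappingCone φ) L k j m (by lia) := by
  obtain rfl : k = i - 1 := by lia
  simp only [alpha, Cochain.mk_v, inT, HomologicalComplex.ιTensorObj]
  exact HomologicalComplex.ι_mapBifunctorDesc (c := ComplexShape.up ℤ) (c₁ := ComplexShape.up ℤ) (c₂ := ComplexShape.up ℤ) _ i j hij

theorem delta_alpha : δ (-1) 0 (alpha φ L) = Cochain.ofHom (tensR φ L ≫ tensR (inr φ) L) := by
  refine Cochain.ext _ _ fun n n' hnn => ?_
  obtain rfl : n' = n := by lia
  refine HomologicalComplex.mapBifunctor.hom_ext fun i j (hij : i + j = n') => ?_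
  show inT K L i j n' hij ≫ _ = inT K L i j n' hij ≫ _
  rw [δ_v (-1) 0 rfl _ n' n' hnn (n' - 1) (n' + 1) rfl rfl, Int.negOnePow_zero, one_smul, Preadditive.comp_add,
    reassoc_of% (inT_alpha φ L i j n' (n' - 1) (i - 1) hij (by lia) (by lia)),
    inT_d (mappingCone φ) L (i - 1) j (n' - 1) n' (by lia) (by lia),
    reassoc_of% (inT_d K L i j n' (n' + 1) hij rfl), Preadditive.add_comp, Linear.units_smul_comp,
    Category.assoc, Category.assoc,
    inT_alpha φ L (i + 1) j (n' + 1) n' i (by lia) (by lia) (by lia),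
    inT_alpha φ L i (j + 1) (n' + 1) n' (i - 1) (by lia) (by lia) (by lia),
    Cochain.ofHom_v, HomologicalComplex.comp_f, reassoc_of% (inT_tensR φ L i j n' hij),
    inT_tensR (inr φ) L i j n' hij, Preadditive.comp_add, Linear.comp_units_smul]
  have key : (inl φ).v i (i - 1) (by lia) ≫ (mappingCone φ).d (i - 1) i =
      φ.f i ≫ (inr φ).f i - K.d i (i + 1) ≫ (inl φ).v (i + 1) i (by lia) :=
    inl_v_d φ i (i - 1) (i + 1) (by lia) (by lia)
  have hsign : (i - 1).negOnePow = -i.negOnePow := by
    rw [Int.negOnePow_sub, Int.negOnePow_one]; simp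
  have e1 : ((inl φ).v i (i - 1) (by lia) ▷ L.X j) ≫ ((mappingCone φ).d (i - 1) (i - 1 + 1) ▷ L.X j) ≫
      inT (mappingCone φ) L (i - 1 + 1) j n' (by lia) =
      (φ.f i ▷ L.X j) ≫ ((inr φ).f i ▷ L.X j) ≫ inT (mappingCone φ) L i j n' hij -
        (K.d i (i + 1) ▷ L.X j) ≫ ((inl φ).v (i + 1) i (by lia) ▷ L.X j) ≫
          inT (mappingCone φ) L i j n' hij := by
    have hcast : ∀ (k : ℤ) (hk : k = i) (hkj : k + j = n'),
        ((mappingCone φ).d (i - 1) k ▷ L.X j) ≫ inT (mappingCone φ) L k j n' hkj =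
          ((mappingCone φ).d (i - 1) i ▷ L.X j) ≫ inT (mappingCone φ) L i j n' hij := by
      rintro k rfl hkj; rfl
    rw [hcast _ (by lia), ← comp_whiskerRight_assoc, key, sub_whisker] <;>
      simp [Preadditive.sub_comp]
  rw [e1, hsign, whisker_exchange_assoc]
  simp only [Units.neg_smul]
  abel

/-- from the cone of the tensored map to the tensored cone -/
noncomputable def toT : mappingCone (tensR φ L) ⟶ tens (mappingCone φ) L :=
  desc (tensR φ L) (alpha φ L) (tensR (inr φ) L) (delta_alpha φ L)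

/-- from the tensored cone to the cone of the tensored map, in each degree -/
noncomputable def fromT (n : ℤ) : (tens (mappingCone φ) L).X n ⟶ (mappingCone (tensR φ L)).X n :=
  HomologicalComplex.mapBifunctorDesc fun i j (hij : i + j = n) =>
    ((fst φ).1.v i (i + 1) rfl ▷ L.X j) ≫ inT K L (i + 1) j (n + 1) (by lia) ≫
        (inl (tensR φ L)).v (n + 1) n (by lia) +
      ((snd φ).v i i (add_zero i) ▷ L.X j) ≫ inT G L i j n hij ≫ (inr (tensR φ L)).f n

theorem inT_fromT (i j n k m : ℤ) (hij : i + j = n) (hk : i + 1 = k) (hm : n + 1 = m) :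
    inT (mappingCone φ) L i j n hij ≫ fromT φ L n =
      ((fst φ).1.v i k hk ▷ L.X j) ≫ inT K L k j m (by lia) ≫ (inl (tensR φ L)).v m n (by lia) +
        ((snd φ).v i i (add_zero i) ▷ L.X j) ≫ inT G L i j n hij ≫ (inr (tensR φ L)).f n := by
  subst hk hm
  simp only [alpha, fromT, Cochain.mk_v, inT, HomologicalComplex.ιTensorObj]
  exact HomologicalComplex.ι_mapBifunctorDesc (c := ComplexShape.up ℤ) (c₁ := ComplexShape.up ℤ) (c₂ := ComplexShape.up ℤ) _ i j hij

theorem toT_fromT (n : ℤ) : (toT φ L).f n ≫ fromT φ L n = 𝟙 _ := by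
  refine (ext_from_iff (tensR φ L) (n + 1) n rfl _ _).2 ⟨?_, ?_⟩
  · rw [Category.comp_id, toT, inl_v_desc_f_assoc]
    refine HomologicalComplex.mapBifunctor.hom_ext fun i j (hij : i + j = n + 1) => ?_
    show inT K L i j _ hij ≫ _ = inT K L i j _ hij ≫ _
    rw [reassoc_of% (inT_alpha φ L i j (n + 1) n (i - 1) hij (by lia) (by lia)),
      inT_fromT φ L (i - 1) j n i (n + 1) (by lia) (by lia) rfl, Preadditive.comp_add,
      ← comp_whiskerRight_assoc, ← comp_whiskerRight_assoc, inl_v_fst_v, inl_v_snd_v]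
    simp
  · rw [Category.comp_id, toT, inr_f_desc_f_assoc]
    refine HomologicalComplex.mapBifunctor.hom_ext fun i j (hij : i + j = n) => ?_
    show inT G L i j _ hij ≫ _ = inT G L i j _ hij ≫ _
    rw [reassoc_of% (inT_tensR (inr φ) L i j n hij), inT_fromT φ L i j n (i + 1) (n + 1) hij rfl rfl,
      Preadditive.comp_add, ← comp_whiskerRight_assoc, ← comp_whiskerRight_assoc, inr_f_fst_v, inr_f_snd_v]
    simp

theorem fromT_toT (n : ℤ) : fromT φ L n ≫ (toT φ L).f n = 𝟙 _ := by
  refine HomologicalComplex.mapBifunctor.hom_ext fun i j (hij : i + j = n) => ?_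
  show inT (mappingCone φ) L i j _ hij ≫ _ = inT (mappingCone φ) L i j _ hij ≫ _
  rw [reassoc_of% (inT_fromT φ L i j n (i + 1) (n + 1) hij rfl rfl), Preadditive.add_comp, Category.assoc,
    Category.assoc, Category.assoc, Category.assoc, toT, inl_v_desc_f, inr_f_desc_f,
    inT_alpha φ L (i + 1) j (n + 1) n i (by lia) (by lia) (by lia), inT_tensR (inr φ) L i j n hij,
    Category.comp_id, ← comp_whiskerRight_assoc, ← comp_whiskerRight_assoc, ← Preadditive.add_comp,
    ← MonoidalPreadditive.add_whiskerRight, id_X, id_whiskerRight, Category.id_comp]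

/-- tensoring commutes with cones -/
noncomputable def coneIso : mappingCone (tensR φ L) ≅ tens (mappingCone φ) L :=
  HomologicalComplex.Hom.isoOfComponents
    (fun n => ⟨(toT φ L).f n, fromT φ L n, toT_fromT φ L n, fromT_toT φ L n⟩) fun i j _ => (toT φ L).comm i j

theorem tensR_smul (a : A) : tensR (a • 𝟙 K) L = a • 𝟙 (tens K L) := by
  refine HomologicalComplex.hom_ext _ _ fun n => ?_
  refine HomologicalComplex.mapBifunctor.hom_ext fun i j (hij : i + j = n) => ?_
  show inT K L i j _ hij ≫ _ = inT K L i j _ hij ≫ _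
  rw [inT_tensR]
  simp [MonoidalLinear.smul_whiskerRight]

/-- the cone of a scalar multiple is transported along isomorphisms -/
noncomputable def coneCongr (a : A) {P Q : CochainComplex (ModuleCat.{u} A) ℤ} (e : P ≅ Q) :
    mappingCone (a • 𝟙 P) ≅ mappingCone (a • 𝟙 Q) where
  hom := mappingCone.map _ _ e.hom e.hom (by simp)
  inv := mappingCone.map _ _ e.inv e.inv (by simp)
  hom_inv_id := by
    rw [← mappingCone.map_comp, ← mappingCone.map_id]
    simp only [e.hom_inv_id]
  inv_hom_id := by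
    rw [← mappingCone.map_comp, ← mappingCone.map_id]
    simp only [e.inv_hom_id]

/-- Koszul complexes of concatenations -/
noncomputable def koszulAppend : ∀ f g : List A,
    tens (Koszul.koszul A f) (Koszul.koszul A g) ≅ Koszul.koszul A (f ++ g)
  | [], g => HomologicalComplex.leftUnitor (Koszul.koszul A g)
  | a :: l, g =>
    ((coneIso (a • 𝟙 (Koszul.koszul A l)) (Koszul.koszul A g)).symm ≪≫
      eqToIso (by rw [tensR_smul]) ≪≫ coneCongr a (koszulAppend l g))

end Groth.Agent.Koszul19.TensorCone
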